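import Groth.Agent.StrictFun.NoSupp
import Groth.Agent.ConsPropLib.FibreFlatLocus
import Groth.Agent.QCoh.PullStalk
import Groth.Agent.S4655
import Groth.Agent.BlowUpLib.Local
import Groth.Agent.NagataLib.StrictTr

/-!
# Strict transforms along blow-ups of the base
-/

universe u

set_option autoImplicit false
set_option linter.style.haveILetI false
set_option backward.isDefEq.respectTransparency false
set_option backward.isDefEq.respectTransparency.types false

open CategoryTheory CategoryTheory.Limits AlgebraicGeometry TopologicalSpace Opposite TensorProduct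
open Scheme (IdealSheafData)

namespace Groth.Agent.StrictFun

open Groth.Agent.QCoh

variable {X S S' X' : Scheme.{u}} {f : X ⟶ S} {b : S' ⟶ S} {I : S.IdealSheafData} {p₁ : X' ⟶ X} {p₂ : X' ⟶ S'}

theorem comap_comap_eq (hsq : IsPullback p₁ p₂ f b) (I : S.IdealSheafData) :
    (I.comap f).comap p₁ = (I.comap b).comap p₂ := by
  rw [← IdealSheafData.comap_comp, ← IdealSheafData.comap_comp, hsq.w]

theorem isLocPrincipal_exc (hb : BlowUp.IsBlowUp b I) (hsq : IsPullback p₁ p₂ f b) :
    ModPairLib.IsLocPrincipal ((I.comap f).comap p₁) :=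
  comap_comap_eq hsq I ▸ NagataLib.isLocPrincipal_comap hb.1 p₂

theorem cut_of_strictTransform (hb : BlowUp.IsBlowUp b I) (hsq : IsPullback p₁ p₂ f b) {F : X.Modules}
    (hF : Coh.IsQCoh F) {G : X'.Modules} {π : (Scheme.Modules.pullback p₁).obj F ⟶ G}
    (hπ : BlowUp.IsStrictTransform p₁ (I.comap f) F G π) :
    IsCut (ModPair.interior ((I.comap f).comap p₁)) π ∧ Coh.IsQCoh G ∧
      NoSupp (ModPair.interior ((I.comap f).comap p₁)) G ⊤ := by
  have hE := isLocPrincipal_exc hb hsq
  have hM := isQCoh_pullback p₁ hF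
  have hc := isCut_of_strict (isFG_of_isLocPrincipal hE) hM (π := π) ⟨hπ.1, hπ.2⟩
  haveI := ModPairLib.isAffineHom_interior hE
  obtain ⟨G₀, π₀, hG₀, hc₀⟩ := exists_isCut hM (ModPair.interior ((I.comap f).comap p₁))
  haveI := hc.1
  haveI := hc₀.1
  have hkill : ∀ {A B : X'.Modules} (ρ : (Scheme.Modules.pullback p₁).obj F ⟶ A)
      (σ : (Scheme.Modules.pullback p₁).obj F ⟶ B), IsCut (ModPair.interior ((I.comap f).comap p₁)) ρ →
      IsCut (ModPair.interior ((I.comap f).comap p₁)) σ → kernel.ι ρ ≫ σ = 0 := fun ρ σ hρ hσ => by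
    refine Scheme.Modules.hom_ext _ _ fun V => ?_
    ext x
    exact (hσ.2 V _).2 ((hρ.2 V _).1 (congr(($(kernel.condition ρ)).app V x) :))
  let e : G₀ ≅ G :=
    { hom := Abelian.epiDesc π₀ π (hkill _ _ hc₀ hc)
      inv := Abelian.epiDesc π π₀ (hkill _ _ hc hc₀)
      hom_inv_id := by rw [← cancel_epi π₀, Abelian.comp_epiDesc_assoc, Abelian.comp_epiDesc, Category.comp_id]
      inv_hom_id := by rw [← cancel_epi π, Abelian.comp_epiDesc_assoc, Abelian.comp_epiDesc, Category.comp_id] }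
  have hG : Coh.IsQCoh G := (SheafOfModules.isQuasicoherent X'.ringCatSheaf).prop_of_iso e hG₀
  exact ⟨hc, hG, noSupp_of_isCut hc hM hG ⊤⟩

theorem exists_strictTransform (hb : BlowUp.IsBlowUp b I) (hsq : IsPullback p₁ p₂ f b) {F : X.Modules}
    (hF : Coh.IsQCoh F) :
    ∃ (G : X'.Modules) (π : (Scheme.Modules.pullback p₁).obj F ⟶ G),
      BlowUp.IsStrictTransform p₁ (I.comap f) F G π := by
  have hE := isLocPrincipal_exc hb hsq
  have hM := isQCoh_pullback p₁ hF
  haveI := ModPairLib.isAffineHom_interior hE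
  obtain ⟨G₀, π₀, -, hc₀⟩ := exists_isCut hM (ModPair.interior ((I.comap f).comap p₁))
  have h := strict_of_isCut (isFG_of_isLocPrincipal hE) hM hc₀
  exact ⟨G₀, π₀, h.1, h.2⟩

theorem isCut_iso_comp {Y : Scheme.{u}} {D : Y.Opens} {M M' G : Y.Modules} (e : M ≅ M') {π : M' ⟶ G}
    (h : IsCut D π) : IsCut D (e.hom ≫ π) := by
  haveI := h.1
  refine ⟨inferInstance, fun V m => ?_⟩
  show π.app V (e.hom.app V m) = 0 ↔ _
  rw [h.2, cutRes_app]
  exact ⟨fun h' => app_injective e.hom _ (h'.trans (map_zero _).symm), fun h' => by rw [h', map_zero]⟩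

/-- Comparison of a quotient with a pulled back one. -/
theorem nonempty_iso_pullback {Y Z : Scheme.{u}} (h : Z ⟶ Y) {D : Y.Opens} {D' : Z.Opens} {M G : Y.Modules}
    {M' G' : Z.Modules} (hM : Coh.IsQCoh M) (hG : Coh.IsQCoh G) (e : (Scheme.Modules.pullback h).obj M ≅ M')
    {π : M ⟶ G} {π' : M' ⟶ G'} (hD : D' ≤ h ⁻¹ᵁ D) (hπ : IsCut D π) (hπ' : IsCut D' π') (W : Z.Opens)
    (hns : NoSupp D' ((Scheme.Modules.pullback h).obj G) W) :
    Nonempty ((Scheme.Modules.pullback W.ι).obj ((Scheme.Modules.pullback h).obj G) ≅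
      (Scheme.Modules.pullback W.ι).obj G') := by
  have hc := isCut_iso_comp e hπ'
  obtain ⟨ψ, hψ⟩ := exists_desc h hD hπ hc
  haveI := isIso_desc h hM hG hπ hc hψ W hns
  exact ⟨((Scheme.Modules.restrictFunctorIsoPullback W.ι).app _).symm ≪≫
    asIso ((Scheme.Modules.restrictFunctor W.ι).map ψ) ≪≫ (Scheme.Modules.restrictFunctorIsoPullback W.ι).app _⟩

/-- Descending flatness at a point along a flat morphism of the source. -/
theorem flatAt_of_pullback {Y Z T : Scheme.{u}} (k : Z ⟶ Y) (p : Y ⟶ T) [Flat k] {G : Y.Modules}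
    (hG : Coh.IsQCoh G) (z : Z) (h : FlatMod.IsFlatOverAt (k ≫ p) ((Scheme.Modules.pullback k).obj G) z) :
    FlatMod.IsFlatOverAt p G (k z) := by
  let A := T.presheaf.stalk (p (k z))
  let B := Y.presheaf.stalk (k z)
  let C := Z.presheaf.stalk z
  letI : Algebra A B := (p.stalkMap (k z)).hom.toAlgebra
  letI : Algebra B C := (k.stalkMap z).hom.toAlgebra
  letI : Algebra A C := ((k.stalkMap z).hom.comp (p.stalkMap (k z)).hom).toAlgebra
  haveI : IsScalarTower A B C := .of_algebraMap_eq fun _ => rfl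
  haveI : Module.Flat B C := Flat.stalkMap k z
  haveI : IsLocalHom (algebraMap B C) := inferInstanceAs (IsLocalHom (k.stalkMap z).hom)
  haveI : Module.FaithfullyFlat B C := Module.FaithfullyFlat.of_flat_of_isLocalHom
  letI := FlatMod.moduleStalkOver p G (k z)
  haveI : IsScalarTower A B (G.presheaf.stalk (k z)) := .of_algebraMap_smul fun _ _ => rfl
  letI : Module A (((Scheme.Modules.pullback k).obj G).presheaf.stalk z) :=
    FlatMod.moduleStalkOver (k ≫ p) ((Scheme.Modules.pullback k).obj G) z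
  obtain ⟨e⟩ := nonempty_pullStalkEquiv k hG z
  haveI : IsScalarTower A C (((Scheme.Modules.pullback k).obj G).presheaf.stalk z) :=
    .of_algebraMap_smul fun a m => by
      show _ = ((k ≫ p).stalkMap z).hom a • m
      rw [Scheme.Hom.stalkMap_comp]
      rfl
  haveI : Module.Flat A (((Scheme.Modules.pullback k).obj G).presheaf.stalk z) := h
  haveI : Module.Flat A (C ⊗[B] G.presheaf.stalk (k z)) := Module.Flat.of_linearEquiv (e.restrictScalars A).symm
  exact S4655.flat_of_tensor A B C (G.presheaf.stalk (k z))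

theorem flatAt_restrict {Y T : Scheme.{u}} (p : Y ⟶ T) {G : Y.Modules} (hG : Coh.IsQCoh G) (W : Y.Opens) (w : W) :
    FlatMod.IsFlatOverAt (W.ι ≫ p) ((Scheme.Modules.pullback W.ι).obj G) w → FlatMod.IsFlatOverAt p G (W.ι w) :=
  flatAt_of_pullback W.ι p hG w

end Groth.Agent.StrictFun
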