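import Groth.Agent.StrictFun.Common
import Groth.Agent.StrictFun.Blow
import Groth.Agent.AssCycles.Basic
import Mathlib.AlgebraicGeometry.PullbackCarrier

/-!
# Flattening strict transforms is etale local
-/

universe u

set_option autoImplicit false
set_option linter.style.haveILetI false
set_option backward.isDefEq.respectTransparency false
set_option backward.isDefEq.respectTransparency.types false
attribute [-instance] CategoryTheory.catToReflQuiver

open CategoryTheory CategoryTheory.Limits AlgebraicGeometry TopologicalSpace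
open Scheme (IdealSheafData)

namespace Groth.Agent.StrictFun

open Groth.Agent.QCoh

theorem flatten_of_etale {X S : Scheme.{u}} [CompactSpace S] [QuasiSeparatedSpace S]
    (f : X ⟶ S) (F : X.Modules) (hqc : Coh.IsQCoh F) (U : S.Opens) (hU : IsCompact (U : Set S))
    {k : ℕ} (Si Xi : Fin k → Scheme.{u}) (e : ∀ i, Si i ⟶ S) (j : ∀ i, Xi i ⟶ X) (fi : ∀ i, Xi i ⟶ Si i)
    [∀ i, Etale (e i)] [∀ i, QuasiCompact (e i)] [∀ i, Etale (j i)]
    (hcovX : ∀ x : X, ∃ i y, (j i).base y = x)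
    (hcomm : ∀ i, j i ≫ f = fi i ≫ e i)
    (𝓘 : ∀ i, (Si i).IdealSheafData) (Sst : Fin k → Scheme.{u}) (b : ∀ i, Sst i ⟶ Si i)
    (hb : ∀ i, BlowUp.IsBlowUp (b i) (𝓘 i) ∧ BlowUp.IsAdmissibleFor ((e i) ⁻¹ᵁ U) (𝓘 i))
    (hflat : ∀ i (X' : Scheme.{u}) (p₁ : X' ⟶ Xi i) (p₂ : X' ⟶ Sst i), IsPullback p₁ p₂ (fi i) (b i) →
      ∀ (G : X'.Modules) (π : (Scheme.Modules.pullback p₁).obj ((Scheme.Modules.pullback (j i)).obj F) ⟶ G),
        BlowUp.IsStrictTransform p₁ ((𝓘 i).comap (fi i)) ((Scheme.Modules.pullback (j i)).obj F) G π → FlatMod.IsFlatOver p₂ G) :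
    ∃ (𝓙 : S.IdealSheafData) (S' : Scheme.{u}) (b' : S' ⟶ S), BlowUp.IsBlowUp b' 𝓙 ∧ BlowUp.IsAdmissibleFor U 𝓙 ∧
      ∀ (X' : Scheme.{u}) (p₁ : X' ⟶ X) (p₂ : X' ⟶ S'), IsPullback p₁ p₂ f b' →
      ∀ (G : X'.Modules) (π : (Scheme.Modules.pullback p₁).obj F ⟶ G),
        BlowUp.IsStrictTransform p₁ (𝓙.comap f) F G π → FlatMod.IsFlatOver p₂ G := by
  obtain ⟨𝓙, S', b', hb', hadm, hint, hcart⟩ := exists_common_blowUp U hU Si e 𝓘 fun i => (hb i).2
  refine ⟨𝓙, S', b', hb', hadm, fun X' p₁ p₂ hsq G π hπ x' => ?_⟩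
  obtain ⟨hcut, hG, hns⟩ := cut_of_strictTransform hb' hsq hqc hπ
  obtain ⟨i, y, hy⟩ := hcovX (p₁ x')
  let E := (𝓙.comap f).comap p₁
  let κ : pullback (j i) p₁ ⟶ X' := pullback.snd (j i) p₁
  obtain ⟨z, -, hzx⟩ := Scheme.Pullback.exists_preimage_pullback (f := j i) (g := p₁) y x' hy
  haveI : Etale κ := MorphismProperty.pullback_snd _ _ inferInstance
  have hκ : IsPullback (pullback.fst (j i) p₁) (κ ≫ p₂) (j i ≫ f) b' :=
    (IsPullback.of_hasPullback (j i) p₁).paste_vert hsq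
  let w : pullback (j i) p₁ ⟶ pullback (e i) b' :=
    pullback.lift (pullback.fst (j i) p₁ ≫ fi i) (κ ≫ p₂) (by rw [Category.assoc, ← hcomm, hκ.w])
  have hw₁ : w ≫ pullback.fst (e i) b' = pullback.fst (j i) p₁ ≫ fi i := pullback.lift_fst _ _ _
  have hw₂ : w ≫ pullback.snd (e i) b' = κ ≫ p₂ := pullback.lift_snd _ _ _
  have hwp : IsPullback (pullback.fst (j i) p₁) w (fi i) (pullback.fst (e i) b') := by
    refine IsPullback.of_bot ?_ hw₁.symm (IsPullback.of_hasPullback (e i) b')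
    rw [hw₂, ← hcomm]
    exact hκ
  obtain ⟨ρ, hρ, -⟩ := (hb i).1.2 _ (pullback.fst (e i) b') (hcart i)
  change ρ ≫ b i = pullback.fst (e i) b' at hρ
  let h : pullback (j i) p₁ ⟶ pullback (fi i) (b i) :=
    pullback.lift (pullback.fst (j i) p₁) (w ≫ ρ) (by rw [Category.assoc, hρ, hw₁])
  have hh₁ : h ≫ pullback.fst (fi i) (b i) = pullback.fst (j i) p₁ := pullback.lift_fst _ _ _
  have hh : IsPullback h w (pullback.snd (fi i) (b i)) ρ := by
    refine IsPullback.of_right ?_ (pullback.lift_snd _ _ _) (IsPullback.of_hasPullback (fi i) (b i))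
    rw [hh₁, hρ]
    exact hwp
  have hFi := isQCoh_pullback (j i) hqc
  obtain ⟨Gi, πi, hπi⟩ := exists_strictTransform (hb i).1 (IsPullback.of_hasPullback (fi i) (b i)) hFi
  have hfl := hflat i _ _ _ (IsPullback.of_hasPullback (fi i) (b i)) Gi πi hπi
  obtain ⟨hcuti, hGi, -⟩ := cut_of_strictTransform (hb i).1 (IsPullback.of_hasPullback (fi i) (b i)) hFi hπi
  have hloc : ModPairLib.IsLocPrincipal (E.comap κ) := (isLocPrincipal_exc hb' hsq).comap κ
  let Mz := (Scheme.Modules.pullback κ).obj ((Scheme.Modules.pullback p₁).obj F)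
  haveI := ModPairLib.isAffineHom_interior hloc
  obtain ⟨GZ, πZ, -, hcutZ⟩ := exists_isCut (isQCoh_pullback κ (isQCoh_pullback p₁ hqc))
    (ModPair.interior (E.comap κ)) (M := Mz)
  -- the two comparisons
  have hnsκ : NoSupp (ModPair.interior (E.comap κ)) ((Scheme.Modules.pullback κ).obj G) ⊤ :=
    noSupp_pullback_of_flat κ (isLocPrincipal_exc hb' hsq) hG hns ⊤
  obtain ⟨i₁⟩ := nonempty_iso_pullback κ (isQCoh_pullback p₁ hqc) hG (Iso.refl Mz)
    (ModPairLib.preimage_interior E κ).ge hcut hcutZ ⊤ hnsκ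
  have hflat' : ∀ z', FlatMod.IsFlatOverAt w ((Scheme.Modules.pullback h).obj Gi) z' := fun z' =>
    MorLib.FlatBC.isFlatOverAt_baseChange _ _ h ρ hh Gi z' (hfl _)
  have hEκ : E.comap κ = ((𝓙.comap b').comap (pullback.snd (e i) b')).comap w := by
    simp only [E]
    rw [comap_comap_eq hsq, ← IdealSheafData.comap_comp _ κ p₂, ← IdealSheafData.comap_comp _ w (pullback.snd (e i) b'), hw₂]
  have hnsh : NoSupp (ModPair.interior (E.comap κ)) ((Scheme.Modules.pullback h).obj Gi) ⊤ := by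
    rw [hEκ]
    exact noSupp_of_flat w (BlowUpLib.isEffCartier_comap_flat _ hb'.1) (isQCoh_pullback h hGi) ⊤ fun z' _ => hflat' z'
  have hD : ModPair.interior (E.comap κ) ≤
      h ⁻¹ᵁ ModPair.interior (((𝓘 i).comap (fi i)).comap (pullback.fst (fi i) (b i))) := by
    intro v hv
    rw [← ModPairLib.preimage_interior, ← ModPairLib.preimage_interior]
    show fi i (pullback.fst (fi i) (b i) (h v)) ∉ ((𝓘 i).support : Set (Si i))
    intro hmem
    simp only [E] at hv
    rw [← ModPairLib.preimage_interior, ← ModPairLib.preimage_interior, ← ModPairLib.preimage_interior, hint] at hv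
    change f (p₁ (κ v)) ∈ U at hv
    refine Set.disjoint_left.1 (hb i).2.2 hmem ?_
    show e i (fi i (pullback.fst (fi i) (b i) (h v))) ∈ U
    rw [← Scheme.Hom.comp_apply (fi i), ← hcomm]
    convert hv using 1
    simp only [← Scheme.Hom.comp_apply]
    congr 1
    rw [hh₁, ← Category.assoc, pullback.condition]
  let eM : (Scheme.Modules.pullback h).obj
      ((Scheme.Modules.pullback (pullback.fst (fi i) (b i))).obj ((Scheme.Modules.pullback (j i)).obj F)) ≅ Mz :=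
    (Scheme.Modules.pullbackComp h (pullback.fst (fi i) (b i))).app _ ≪≫
      (Scheme.Modules.pullbackCongr hh₁).app _ ≪≫
      (Scheme.Modules.pullbackComp (pullback.fst (j i) p₁) (j i) ≪≫ Scheme.Modules.pullbackCongr pullback.condition ≪≫
        (Scheme.Modules.pullbackComp κ p₁).symm).app F
  obtain ⟨i₂⟩ := nonempty_iso_pullback h (isQCoh_pullback _ hFi) hGi eM hD hcuti hcutZ ⊤ hnsh
  -- transport flatness
  have h1 : FlatMod.IsFlatOverAt (κ ≫ p₂) ((Scheme.Modules.pullback h).obj Gi) z := by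
    rw [← hw₂]
    exact ConsPropLib.isFlatOverAt_comp w _ _ z (Flat.stalkMap _ _) (hflat' z)
  have h2 : FlatMod.IsFlatOverAt (κ ≫ p₂) ((Scheme.Modules.pullback κ).obj G) z := by
    refine flatAt_restrict (κ ≫ p₂) (isQCoh_pullback κ hG) ⊤ ⟨z, trivial⟩ ?_
    exact GrFlat5.isFlatOverAt_of_iso _ (i₂ ≪≫ i₁.symm) _ (AssCycles.isFlatOverAt_restrict _ ⊤ _ ⟨z, trivial⟩ h1)
  have h3 := flatAt_of_pullback κ p₂ hG z h2
  rwa [hzx] at h3

end Groth.Agent.StrictFun
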