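import Groth.Agent.StrictFun.BaseCase
import Groth.Agent.S1279
import Groth.Agent.RGLib.Lim8Zero

/-!
# Locally free strict transform on an open surjecting to the base
-/

set_option autoImplicit false
set_option linter.style.haveILetI false
set_option backward.isDefEq.respectTransparency false
set_option backward.isDefEq.respectTransparency.types false
attribute [-instance] CategoryTheory.catToReflQuiver

universe u

open CategoryTheory CategoryTheory.Limits AlgebraicGeometry TopologicalSpace Opposite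
open Scheme (IdealSheafData)

namespace Groth.Agent.StrictFun

open Groth.Agent.QCoh

/-- A closed inclusion of pullbacks of a finitely presented restriction. -/
theorem isFP_pullback_of_range {X Y : Scheme.{u}} {F : X.Modules} (hF : Coh.IsQCoh F) {W : X.Opens}
    (hfp : CohB1.IsFP ((Scheme.Modules.pullback W.ι).obj F)) (j : Y ⟶ X) (hj : ∀ y, j y ∈ W) :
    CohB1.IsFP ((Scheme.Modules.pullback j).obj F) := by
  have hr : Set.range j ⊆ Set.range W.ι := by
    rintro _ ⟨y, rfl⟩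
    rw [Scheme.Opens.range_ι]
    exact hj y
  exact (SheafOfModules.isFinitePresentation Y.ringCatSheaf).prop_of_iso
    ((Scheme.Modules.pullbackComp _ W.ι ≪≫ Scheme.Modules.pullbackCongr (IsOpenImmersion.lift_fac W.ι j hr)).app F)
    (RGLib.Lim8.isFP_pullback (IsOpenImmersion.lift W.ι j hr) (isQCoh_pullback _ hF) hfp)

/-- Constant rank locally off an effective Cartier divisor. -/
theorem good_of_separated {X S : Scheme.{u}} [CompactSpace S] [QuasiSeparatedSpace S] (f : X ⟶ S) [IsAffineHom f]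
    [LocallyOfFinitePresentation f] [Flat f] [GeometricallyIntegral f] (F : X.Modules) (hFq : Coh.IsQCoh F)
    (hft : CohB1.IsFT F) {U : S.Opens} (hU : IsCompact (U : Set S)) {E : S.IdealSheafData}
    (hE : BlowUp.IsEffCartierIdeal E) (hint : ModPair.interior E = U)
    (hfp : CohB1.IsFP ((Scheme.Modules.pullback (f ⁻¹ᵁ U).ι).obj F))
    (hrk : ∀ s : S, ∃ (O : S.Opens) (r : ℕ), s ∈ O ∧ ∀ u ∈ U, u ∈ O →
      ∃ z, f z = u ∧ FlatFun.IsFreeOfRankNear F r z) :
    Good f F U := by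
  classical
  have hloc : ∀ s : S, ∃ (V : S.affineOpens) (t : Γ(S, V.1)) (r : ℕ), s ∈ V.1 ∧ V.1 ⊓ U = S.basicOpen t ∧
      ∀ u ∈ U, u ∈ V.1 → ∃ z, f z = u ∧ FlatFun.IsFreeOfRankNear F r z := by
    intro s
    obtain ⟨O, r, hsO, hr⟩ := hrk s
    obtain ⟨V, t, hsV, hVO, ht⟩ := exists_principal_le (ModPairLib.isLocPrincipal_of_isEffCartier hE) hsO
    exact ⟨V, t, r, hsV, hint ▸ ModPairLib.interior_inter_eq_basicOpen ht, fun u hu huV => hr u hu (hVO huV)⟩
  choose V t r hsV hVU hr using hloc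
  obtain ⟨σ, hσ⟩ := isCompact_univ.elim_finite_subcover (fun s : S => ((V s).1 : Set S))
    (fun s => (V s).1.2) (fun s _ => Set.mem_iUnion.2 ⟨s, hsV s⟩)
  refine good_of_cover hFq hU (fun i => (V (σ.equivFin.symm i).1).1) (fun i => (V _).2.isCompact) (fun s => ?_)
    fun i => ?_
  · obtain ⟨s', hs', hs⟩ := Set.mem_iUnion₂.1 (hσ (Set.mem_univ s))
    exact ⟨σ.equivFin ⟨s', hs'⟩, by rwa [Equiv.symm_apply_apply]⟩
  generalize (σ.equivFin.symm i).1 = s
  haveI : IsAffine (V s).1.toScheme := (V s).2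
  let t' : Γ((V s).1.toScheme, ⊤) := (V s).1.ι.appLE (V s).1 ⊤ (by simp) (t s)
  have hbo : (V s).1.ι ⁻¹ᵁ U = (V s).1.toScheme.basicOpen t' := by
    simp only [t', Scheme.Hom.appLE]
    rw [CommRingCat.comp_apply, Scheme.basicOpen_res, top_inf_eq, ← Scheme.preimage_basicOpen, ← hVU,
      Scheme.Hom.preimage_inf, Scheme.Opens.ι_preimage_self, top_inf_eq]
  have hfp' : CohB1.IsFP ((Scheme.Modules.pullback ((f ∣_ (V s).1) ⁻¹ᵁ (V s).1.toScheme.basicOpen t').ι).obj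
      ((Scheme.Modules.pullback (f ⁻¹ᵁ (V s).1).ι).obj F)) := by
    refine (SheafOfModules.isFinitePresentation ((f ∣_ (V s).1) ⁻¹ᵁ (V s).1.toScheme.basicOpen t').toScheme.ringCatSheaf).prop_of_iso
      ((Scheme.Modules.pullbackComp ((f ∣_ (V s).1) ⁻¹ᵁ (V s).1.toScheme.basicOpen t').ι (f ⁻¹ᵁ (V s).1).ι).symm.app F) ?_
    refine isFP_pullback_of_range hFq hfp _ fun y => ?_
    have hy : (f ∣_ (V s).1) y.1 ∈ (V s).1.toScheme.basicOpen t' := y.2
    replace hy := (SetLike.ext_iff.1 hbo _).2 hy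
    show f ((f ⁻¹ᵁ (V s).1).ι y.1) ∈ U
    rw [← Scheme.Hom.comp_apply, ← morphismRestrict_ι]
    exact hy
  rw [hbo]
  haveI : IsAffineHom (f ∣_ (V s).1) :=
    MorphismProperty.of_isPullback (P := @IsAffineHom) (isPullback_morphismRestrict f (V s).1).flip ‹_›
  haveI : GeometricallyIntegral (f ∣_ (V s).1) :=
    MorphismProperty.of_isPullback (P := @GeometricallyIntegral) (isPullback_morphismRestrict f (V s).1).flip ‹_›
  refine good_affine (f ∣_ (V s).1) _ (isQCoh_pullback _ hFq) (isFT_pullback _ hFq hft) t' hfp' (r s) fun u hu => ?_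
  rw [← hbo] at hu
  obtain ⟨z, hz, hn⟩ := hr s ((V s).1.ι u) hu u.2
  have hzV : z ∈ f ⁻¹ᵁ (V s).1 := by
    show f z ∈ (V s).1
    rw [hz]
    exact u.2
  refine ⟨⟨z, hzV⟩, (V s).1.ι.isOpenEmbedding.injective ?_, FreeGenPts.near_pullback (f ⁻¹ᵁ (V s).1).ι F (r s) ⟨z, hzV⟩ hn⟩
  rw [← Scheme.Hom.comp_apply, morphismRestrict_ι]
  exact hz

theorem exists_near {X S : Scheme.{u}} (f : X ⟶ S) [IsAffineHom f] [Flat f] [GeometricallyIntegral f]
    (U : S.Opens) (F : X.Modules)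
    (hfpU : CohB1.IsFP ((Scheme.Modules.pullback (f ⁻¹ᵁ U).ι).obj F))
    (hflU : ∀ x : X, f.base x ∈ U → closure ({f.asFiber x} : Set (f.fiber (f.base x))) = Set.univ →
      FlatMod.IsFlatOverAt f F x)
    {u : S} (hu : u ∈ U) : ∃ (r : ℕ) (z : X), f z = u ∧ FlatFun.IsFreeOfRankNear F r z := by
  obtain ⟨z₀, hz₀⟩ := f.surjective u
  obtain ⟨η, hη, hgen, -⟩ := FreeGenPts.exists_generic f z₀
  have hfη : f η = u := hη.trans hz₀
  have hηU : η ∈ f ⁻¹ᵁ U := show f η ∈ U from hfη ▸ hu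
  have hclo : closure ({f.asFiber η} : Set (f.fiber (f.base η))) = Set.univ := by
    refine Set.eq_univ_of_forall fun w => specializes_iff_mem_closure.1 ?_
    rw [← (f.fiberι (f η)).isEmbedding.isInducing.specializes_iff, Scheme.Hom.fiberι_asFiber]
    exact hgen _ (FibDim.fiber_apply_fiberι f w)
  have hfl := hflU η hηU hclo
  have hfl' : FlatMod.IsFlatOverAt (f ∣_ U) ((Scheme.Modules.pullback (f ⁻¹ᵁ U).ι).obj F) ⟨η, hηU⟩ :=
    MorLib.FlatBC.isFlatOverAt_baseChange f (f ∣_ U) (f ⁻¹ᵁ U).ι U.ι (isPullback_morphismRestrict f U).flip F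
      ⟨η, hηU⟩ hfl
  have hgen' : FlatFun.IsGenericPtOfFibre (f ∣_ U) ⟨η, hηU⟩ := fun x hx => by
    have h1 : f ((f ⁻¹ᵁ U).ι x) = f η := by
      rw [← Scheme.Hom.comp_apply, ← morphismRestrict_ι, Scheme.Hom.comp_apply]
      refine (congrArg U.ι hx).trans ?_
      rw [← Scheme.Hom.comp_apply, morphismRestrict_ι]
      rfl
    have h2 := hgen _ h1
    exact (f ⁻¹ᵁ U).ι.isOpenEmbedding.isInducing.specializes_iff.1 h2
  haveI : IsAffineHom (f ∣_ U) :=
    MorphismProperty.of_isPullback (P := @IsAffineHom) (isPullback_morphismRestrict f U).flip ‹_›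
  haveI : GeometricallyIntegral (f ∣_ U) :=
    MorphismProperty.of_isPullback (P := @GeometricallyIntegral) (isPullback_morphismRestrict f U).flip ‹_›
  obtain ⟨r, hr⟩ := near_of_flatAt_generic (f ∣_ U) hfpU hgen' hfl'
  exact ⟨r, η, hfη, FreeGenPts.near_of_openImmersion (f ⁻¹ᵁ U).ι hr⟩

theorem good {X S : Scheme.{u}} [CompactSpace S] [QuasiSeparatedSpace S]
    (f : X ⟶ S) [IsAffineHom f] [LocallyOfFinitePresentation f] [Flat f] [GeometricallyIntegral f]
    (U : S.Opens) (hU : IsCompact (U : Set S)) (F : X.Modules) (hqc : Coh.IsQCoh F) (hft : CohB1.IsFT F)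
    (hfpU : CohB1.IsFP ((Scheme.Modules.pullback (f ⁻¹ᵁ U).ι).obj F))
    (hflU : ∀ x : X, f.base x ∈ U → closure ({f.asFiber x} : Set (f.fiber (f.base x))) = Set.univ →
      FlatMod.IsFlatOverAt f F x) : Good f F U := by
  classical
  -- the pieces of constant rank
  let P : ℕ → Set S := fun r => f '' ({z | FlatFun.IsFreeOfRankNear F r z} ∩ (f ⁻¹ᵁ U : X.Opens))
  have hPopen : ∀ r, IsOpen (P r) := fun r =>
    f.isOpenMap _ ((FreeGenPts.isOpen_near F r).inter (f ⁻¹ᵁ U).2)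
  have hPU : ∀ r, P r ⊆ U := fun r => by rintro _ ⟨z, ⟨-, hz⟩, rfl⟩; exact hz
  have hPcov : ∀ u ∈ U, ∃ r, u ∈ P r := fun u hu => by
    obtain ⟨r, z, hz, hn⟩ := exists_near f U F hfpU hflU hu
    exact ⟨r, z, ⟨hn, show f z ∈ U from hz ▸ hu⟩, hz⟩
  have hPdisj : ∀ r r' u, u ∈ P r → u ∈ P r' → r = r' := by
    rintro r r' u ⟨z, ⟨hz, -⟩, rfl⟩ ⟨z', ⟨hz', -⟩, he⟩
    exact rank_unique f hqc he.symm hz hz'
  obtain ⟨R, hR⟩ := hU.elim_finite_subcover P hPopen fun u hu => Set.mem_iUnion.2 (hPcov u hu)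
  -- separate the closures
  let T : ℕ → Set U := fun r => Subtype.val ⁻¹' P r
  have hTopen : ∀ r, IsOpen (T r) := fun r => (hPopen r).preimage continuous_subtype_val
  have hTclosed : ∀ r, IsClosed (T r) := fun r => by
    rw [← isOpen_compl_iff, show (T r)ᶜ = ⋃ q ∈ {q | q ≠ r}, T q from ?_]
    · exact isOpen_biUnion fun q _ => hTopen q
    ext u
    simp only [Set.mem_compl_iff, Set.mem_iUnion, Set.mem_setOf_eq]
    refine ⟨fun h => ?_, fun ⟨q, hq, hu⟩ h => hq (hPdisj q r u.1 hu h)⟩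
    obtain ⟨q, hq⟩ := hPcov u.1 u.2
    exact ⟨q, fun e => h (e ▸ hq), hq⟩
  haveI : CompactSpace U := isCompact_iff_compactSpace.mp hU
  haveI : QuasiSeparatedSpace U := QuasiSeparatedSpace.of_isOpenEmbedding U.2.isOpenEmbedding_subtypeVal
  have hTcons : ∀ r, Topology.IsConstructible (T r) := fun r =>
    ((hTclosed r).isCompact).isConstructible (hTopen r)
  choose 𝓘 Xb bb hbb hadm hdisj using fun r : Fin R.card =>
    S1279.result U hU (T (R.equivFin.symm r).1) (T (R.equivFin.symm r).1)ᶜ (hTclosed _) (hTopen _).isClosed_compl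
      (hTcons _) (hTcons _).compl disjoint_compl_right
  obtain ⟨𝓙, S', b, hb, hJ, hint, hcart⟩ := exists_common_blowUp U hU (fun _ : Fin R.card => S) (fun _ => 𝟙 S) 𝓘
    fun r => by simpa using hadm r
  haveI := BlowUpLib.isProper_of_isBlowUp 𝓙 hb hJ.1
  haveI : CompactSpace S' := QuasiCompact.compactSpace_of_compactSpace b
  haveI : QuasiSeparatedSpace S' := quasiSeparatedSpace_of_quasiSeparated b
  have hρ : ∀ r, ∃ ρ : S' ⟶ Xb r, ρ ≫ bb r = b := fun r => by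
    obtain ⟨ρ₀, h, -⟩ := (hbb r).2 _ (pullback.fst (𝟙 S) b) (hcart r)
    refine ⟨inv (pullback.snd (𝟙 S) b) ≫ ρ₀, ?_⟩
    change ρ₀ ≫ bb r = pullback.fst (𝟙 S) b at h
    rw [Category.assoc, h, IsIso.inv_comp_eq, ← pullback.condition, Category.comp_id]
  choose ρ hρ using hρ
  refine good_of_blowUp hJ.1 hint hb ?_
  let f' := pullback.snd f b
  let F' := (Scheme.Modules.pullback (pullback.fst f b)).obj F
  haveI : IsAffineHom f' := MorphismProperty.pullback_snd (P := @IsAffineHom) f b ‹_›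
  have hfp' : CohB1.IsFP ((Scheme.Modules.pullback (f' ⁻¹ᵁ (b ⁻¹ᵁ U)).ι).obj F') := by
    refine (SheafOfModules.isFinitePresentation (f' ⁻¹ᵁ (b ⁻¹ᵁ U)).toScheme.ringCatSheaf).prop_of_iso
      ((Scheme.Modules.pullbackComp (f' ⁻¹ᵁ (b ⁻¹ᵁ U)).ι (pullback.fst f b)).symm.app F) ?_
    refine isFP_pullback_of_range hqc hfpU _ fun y => ?_
    show f (pullback.fst f b y.1) ∈ U
    rw [← Scheme.Hom.comp_apply, pullback.condition]
    exact y.2
  refine good_of_separated f' F' (isQCoh_pullback _ hqc) (isFT_pullback _ hqc hft)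
    (QuasiCompact.isCompact_preimage (f := b) _ U.2 hU)
    hb.1 (by rw [← ModPairLib.preimage_interior, hint]) hfp' fun s => ?_
  let C : Fin R.card → Set S' := fun r => closure (b ⁻¹' (Subtype.val '' T (R.equivFin.symm r).1))
  let O : S'.Opens := ⟨⋂ r : {r // s ∉ C r}, (C r.1)ᶜ, isOpen_iInter_of_finite fun r => isClosed_closure.isOpen_compl⟩
  have hsO : s ∈ O := Set.mem_iInter.2 fun r => r.2
  have hpiece : ∀ w : S', b w ∈ U → ∃ r : Fin R.card, b w ∈ P (R.equivFin.symm r).1 := fun w hw => by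
    obtain ⟨q, hq, h⟩ := Set.mem_iUnion₂.1 (hR hw)
    exact ⟨R.equivFin ⟨q, hq⟩, by rwa [Equiv.symm_apply_apply]⟩
  by_cases hs : ∃ r₀, s ∈ C r₀
  · obtain ⟨r₀, hr₀⟩ := hs
    refine ⟨O, (R.equivFin.symm r₀).1, hsO, fun u hu huO => ?_⟩
    obtain ⟨q, hq⟩ := hpiece u hu
    have hqr : q = r₀ := by
      by_contra hne
      have hu' : u ∈ C q := subset_closure ⟨⟨b u, hu⟩, hq, rfl⟩
      by_cases hsq : s ∈ C q
      · have hmono : ∀ A : Set S, closure (b ⁻¹' A) ⊆ ρ r₀ ⁻¹' closure (bb r₀ ⁻¹' A) := fun A =>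
          closure_minimal (fun z hz => subset_closure (show bb r₀ (ρ r₀ z) ∈ A by
            rw [← Scheme.Hom.comp_apply, hρ]
            exact hz)) (isClosed_closure.preimage (ρ r₀).continuous)
        refine Set.disjoint_left.1 (hdisj r₀) (hmono _ hr₀) ?_
        refine (hmono _).trans (Set.preimage_mono (closure_mono (Set.preimage_mono ?_))) hsq
        rintro _ ⟨w, hw, rfl⟩
        exact ⟨w, fun hw' => hne (R.equivFin.symm.injective (Subtype.ext (hPdisj _ _ w.1 hw hw'))), rfl⟩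
      · exact Set.mem_iInter.1 huO ⟨q, hsq⟩ hu'
    obtain ⟨z, ⟨hz, -⟩, hzu⟩ := hqr ▸ hq
    obtain ⟨z', hz₁, hz₂⟩ := Scheme.Pullback.exists_preimage_pullback (f := f) (g := b) z u hzu
    exact ⟨z', hz₂, FreeGenPts.near_pullback _ F _ z' (hz₁ ▸ hz)⟩
  · refine ⟨O, 0, hsO, fun u hu huO => ?_⟩
    obtain ⟨q, hq⟩ := hpiece u hu
    exact absurd (show u ∈ C q from subset_closure ⟨⟨b u, hu⟩, hq, rfl⟩) (Set.mem_iInter.1 huO ⟨q, fun h => hs ⟨q, h⟩⟩)

/-- The strict transform is finite locally free on an open surjecting to the blown up base. -/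
theorem strict_finLocFree_on_surjective_open {X S : Scheme.{u}} [CompactSpace S] [QuasiSeparatedSpace S]
    (f : X ⟶ S) [IsAffineHom f] [LocallyOfFinitePresentation f] [Flat f] [GeometricallyIntegral f]
    (U : S.Opens) (hU : IsCompact (U : Set S)) (F : X.Modules) (hqc : Coh.IsQCoh F) (hft : CohB1.IsFT F)
    (hfpU : CohB1.IsFP ((Scheme.Modules.pullback (f ⁻¹ᵁ U).ι).obj F))
    (hflU : ∀ x : X, f.base x ∈ U → closure ({f.asFiber x} : Set (f.fiber (f.base x))) = Set.univ →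
      FlatMod.IsFlatOverAt f F x) :
    ∃ (𝓘 : S.IdealSheafData) (S' : Scheme.{u}) (b : S' ⟶ S), BlowUp.IsBlowUp b 𝓘 ∧ BlowUp.IsAdmissibleFor U 𝓘 ∧
      ∀ (X' : Scheme.{u}) (p₁ : X' ⟶ X) (p₂ : X' ⟶ S'), IsPullback p₁ p₂ f b →
      ∀ (G : X'.Modules) (π : (Scheme.Modules.pullback p₁).obj F ⟶ G), BlowUp.IsStrictTransform p₁ (𝓘.comap f) F G π →
        ∃ V : X'.Opens, FlatMod.IsFinLocFree ((Scheme.Modules.pullback V.ι).obj G) ∧
          Function.Surjective (V.ι ≫ p₂).base := by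
  obtain ⟨𝓙, S', b, hb, hft', hint, hF⟩ := good f U hU F hqc hft hfpU hflU
  refine ⟨𝓙, S', b, hb, ⟨hft', Set.disjoint_left.2 fun s hs hsU => (hint.ge hsU) hs⟩, fun X' p₁ p₂ sq G π hπ => ?_⟩
  obtain ⟨hcut, -, -⟩ := cut_of_strictTransform hb sq hqc hπ
  have hD : ModPair.interior ((𝓙.comap f).comap p₁) = p₂ ⁻¹ᵁ (b ⁻¹ᵁ U) := by
    rw [comap_comap_eq sq, ← ModPairLib.preimage_interior, ← ModPairLib.preimage_interior, hint]
  rw [hD] at hcut
  let V : X'.Opens := ⟨{y | ∃ p, FlatFun.IsFreeOfRankNear G p y}, by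
    rw [show {y : X' | ∃ p, FlatFun.IsFreeOfRankNear G p y} = ⋃ p, {y | FlatFun.IsFreeOfRankNear G p y} by ext; simp]
    exact isOpen_iUnion fun p => FreeGenPts.isOpen_near G p⟩
  refine ⟨V, fun y => ?_, fun t => ?_⟩
  · obtain ⟨p, hp⟩ := y.2
    obtain ⟨W, hyW, e⟩ := FreeGenPts.near_pullback V.ι G p y hp
    exact ⟨W, p, hyW, e⟩
  · obtain ⟨y, p, hy, hp⟩ := hF X' p₁ p₂ sq G π hcut t
    refine ⟨⟨y, p, hp⟩, ?_⟩
    show (V.ι ≫ p₂) ⟨y, p, hp⟩ = t
    rw [Scheme.Hom.comp_apply]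
    exact hy

end Groth.Agent.StrictFun
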