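import Groth.Agent.StrictFun.FreeOpen
import Groth.Agent.FlatBlow.Main
import Groth.Agent.BlowUpLib.Glue
import Groth.Agent.S1287

/-!
# The affine case: constant rank off a principal effective Cartier divisor
-/

set_option autoImplicit false
set_option linter.style.haveILetI false
set_option backward.isDefEq.respectTransparency false
set_option backward.isDefEq.respectTransparency.types false
attribute [-instance] CategoryTheory.catToReflQuiver

universe u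

open CategoryTheory CategoryTheory.Limits AlgebraicGeometry TopologicalSpace Opposite
open Scheme (IdealSheafData)

namespace Groth.Agent.StrictFun

open Groth.Agent.QCoh

theorem free_rank_of_semilinear {A₁ A₂ M₁ M₂ : Type u} [CommRing A₁] [CommRing A₂] [AddCommGroup M₁] [Module A₁ M₁]
    [AddCommGroup M₂] [Module A₂ M₂] (i : A₁ ≃+* A₂) (j : M₁ ≃+ M₂) (h : ∀ r m, j (r • m) = i r • j m)
    [Module.Free A₂ M₂] : Module.Free A₁ M₁ ∧ Module.rank A₁ M₁ = Module.rank A₂ M₂ := by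
  letI : Module A₂ M₁ := Module.compHom M₁ i.symm.toRingHom
  let l : M₂ ≃ₗ[A₂] M₁ :=
    { j.symm with
      map_smul' := fun r m => j.injective (by
        show j (j.symm (r • m)) = j (i.symm r • j.symm m)
        rw [h, RingEquiv.apply_symm_apply, AddEquiv.apply_symm_apply, AddEquiv.apply_symm_apply]) }
  let b := Module.Free.chooseBasis A₂ M₂
  let b' : Module.Basis _ A₁ M₁ := (b.map l).mapCoeffs i.symm fun _ _ => rfl
  exact ⟨Module.Free.of_basis b', rank_eq_of_equiv_equiv i j i.bijective h⟩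

theorem fp_of_semilinear {A₁ A₂ M₁ M₂ : Type u} [CommRing A₁] [CommRing A₂] [AddCommGroup M₁] [Module A₁ M₁]
    [AddCommGroup M₂] [Module A₂ M₂] (i : A₁ ≃+* A₂) (j : M₁ ≃+ M₂) (h : ∀ r m, j (r • m) = i r • j m)
    [Module.FinitePresentation A₂ M₂] : Module.FinitePresentation A₁ M₁ := by
  letI : Algebra A₂ A₁ := i.symm.toRingHom.toAlgebra
  letI : Module A₂ M₁ := Module.compHom M₁ i.symm.toRingHom
  haveI : IsScalarTower A₂ A₁ M₁ := IsScalarTower.of_algebraMap_smul fun _ _ => rfl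
  let l : M₂ ≃ₗ[A₂] M₁ :=
    { j.symm with
      map_smul' := fun r m => j.injective (by
        show j (j.symm (r • m)) = j (i.symm r • j.symm m)
        rw [h, RingEquiv.apply_symm_apply, AddEquiv.apply_symm_apply, AddEquiv.apply_symm_apply]) }
  haveI := Module.FinitePresentation.of_equiv l
  let eA : A₁ ≃ₗ[A₂] A₂ :=
    { i.toAddEquiv with
      map_smul' := fun a x => by
        show i (i.symm a * x) = a * i x
        rw [map_mul, RingEquiv.apply_symm_apply] }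
  let e0 := (TensorProduct.congr eA (LinearEquiv.refl A₂ M₁)).trans (TensorProduct.lid A₂ M₁)
  let e : TensorProduct A₂ A₁ M₁ ≃ₗ[A₁] M₁ :=
    { e0 with
      map_smul' := fun a z => by
        show e0 (a • z) = a • e0 z
        obtain ⟨b, rfl⟩ : ∃ b, algebraMap A₂ A₁ b = a := ⟨i a, i.symm_apply_apply a⟩
        rw [algebraMap_smul, map_smul, algebraMap_smul] }
  have hb : IsBaseChange A₁ (LinearMap.id : M₁ →ₗ[A₂] M₁) := IsBaseChange.of_equiv e fun x => by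
    show e0 (1 ⊗ₜ x) = x
    simp [e0, eA]
  exact FinitePresentation.of_isBaseChange _ hb

theorem finitePresentation_of_pullback {X : Scheme.{u}} {F : X.Modules} {D : X.Opens} (hF : Coh.IsQCoh F)
    (hfp : CohB1.IsFP ((Scheme.Modules.pullback D.ι).obj F)) (hD : IsAffineOpen D) :
    Module.FinitePresentation Γ(X, D) Γ(F, D) := by
  have h1 := RGLib.Lim8.isFP_pullback hD.isoSpec.inv (isQCoh_pullback D.ι hF) hfp
  have h2 : CohB1.IsFP (F.restrict hD.fromSpec) :=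
    (SheafOfModules.isFinitePresentation (Spec Γ(X, D)).ringCatSheaf).prop_of_iso
      ((Scheme.Modules.pullbackComp hD.isoSpec.inv D.ι ≪≫ Scheme.Modules.pullbackCongr hD.isoSpec_inv_ι ≪≫
        (Scheme.Modules.restrictFunctorIsoPullback hD.fromSpec).symm).app F) h1
  haveI := (isFP_iff_finitePresentation _ (isQCoh_restrict _ hF)).1 h2
  exact Module.FinitePresentation.of_equiv (chartEquiv hD F).symm

theorem appLE_chart {S : Scheme.{u}} [IsAffine S] {A' : Type u} [CommRing A'] (g : Spec (CommRingCat.of A') ⟶ S)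
    (ψ : Γ(S, ⊤) →+* A') (hg : g = Spec.map (CommRingCat.ofHom ψ) ≫ S.isoSpec.inv) :
    g.appLE ⊤ ⊤ le_top = CommRingCat.ofHom ψ ≫ (Scheme.ΓSpecIso (CommRingCat.of A')).inv := by
  have hinv : S.isoSpec.inv.appTop = (Scheme.ΓSpecIso Γ(S, ⊤)).inv := by
    rw [← cancel_mono (Scheme.ΓSpecIso Γ(S, ⊤)).hom, Iso.inv_hom_id]
    have h1 : (S.isoSpec.hom ≫ S.isoSpec.inv).appTop = 𝟙 _ := by rw [Iso.hom_inv_id]; rfl
    rw [Scheme.Hom.comp_appTop] at h1
    rw [← Scheme.toSpecΓ_appTop]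
    exact h1
  have h2 : g.appLE ⊤ ⊤ le_top = g.appTop := by
    show g.app ⊤ ≫ _ = g.app ⊤
    erw [(Spec (CommRingCat.of A')).presheaf.map_id]
    exact Category.comp_id _
  rw [h2, Scheme.ΓSpecIso_inv_naturality, hg, Scheme.Hom.comp_appTop, hinv]
  rfl

/-- The exceptional ideal on a chart is principal. -/
theorem ideal_top_chart {S Z : Scheme.{u}} [IsAffine S] [IsAffine Z] {A' : Type u} [CommRing A']
    (g : Spec (CommRingCat.of A') ⟶ S) (qc : Z ⟶ Spec (CommRingCat.of A')) (ψ : Γ(S, ⊤) →+* A')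
    (hg : g.appLE ⊤ ⊤ le_top = CommRingCat.ofHom ψ ≫ (Scheme.ΓSpecIso (CommRingCat.of A')).inv)
    (𝓙 : S.IdealSheafData) (x : A') (hI : (𝓙.ideal ⟨⊤, isAffineOpen_top S⟩).map ψ = Ideal.span {x}) :
    ((𝓙.comap g).comap qc).ideal ⟨⊤, isAffineOpen_top Z⟩ =
      Ideal.span {((Scheme.ΓSpecIso (CommRingCat.of A')).inv ≫ qc.appLE ⊤ ⊤ le_top).hom x} := by
  rw [ModPairLib.ideal_comap _ qc ⟨⊤, isAffineOpen_top _⟩ ⟨⊤, isAffineOpen_top Z⟩ le_top,
    ModPairLib.ideal_comap 𝓙 g ⟨⊤, isAffineOpen_top S⟩ ⟨⊤, isAffineOpen_top _⟩ le_top, hg, CommRingCat.hom_comp,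
    ← Ideal.map_map, CommRingCat.hom_ofHom, hI, Ideal.map_span, Ideal.map_span, Set.image_singleton,
    Set.image_singleton]
  rfl

theorem map_frac {A : Type u} [CommRing A] (I : Ideal A) (a : I) :
    I.map (algebraMap A (BlowUp.affineAlgebra A I (a : A))) =
      Ideal.span {algebraMap A (BlowUp.affineAlgebra A I (a : A)) (a : A)} :=
  le_antisymm (Ideal.map_le_iff_le_comap.2 fun x hx => Ideal.mem_span_singleton'.2
      ⟨BlowUpLib.frac I ⟨x, hx⟩ a, BlowUpLib.frac_mul I ⟨x, hx⟩ a⟩)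
    ((Ideal.span_singleton_le_iff_mem _).2 (Ideal.mem_map_of_mem _ a.2))

/-- On an affine scheme, freeness of the quotient by the torsion gives freeness of the strict quotient. -/
theorem near_of_free_quotient {Z : Scheme.{u}} [IsAffine Z] {N G : Z.Modules} (hN : Coh.IsQCoh N)
    (hNft : CohB1.IsFT N) (E : Z.IdealSheafData) {a : Γ(Z, ⊤)}
    (hEtop : E.ideal ⟨⊤, isAffineOpen_top Z⟩ = Ideal.span {a}) {D : Z.Opens} (hEint : ModPair.interior E = D)
    {π : N ⟶ G} (hπ : IsCut D π) (g₀ : Γ(Z, ⊤))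
    (hfr : Module.Free (Localization.Away g₀)
      (LocalizedModule (Submonoid.powers g₀) (Γ(N, ⊤) ⧸ FlatCA.powTorsion Γ(Z, ⊤) a Γ(N, ⊤)))) :
    ∃ n, ∀ y ∈ Z.basicOpen g₀, FlatFun.IsFreeOfRankNear G n y := by
  haveI := hπ.1
  have hZt := isAffineOpen_top Z
  have hD : (⊤ : Z.Opens) ⊓ D = Z.basicOpen a :=
    hEint ▸ ModPairLib.interior_inter_eq_basicOpen (U := ⟨⊤, hZt⟩) hEtop
  have hEloc : ModPairLib.IsLocPrincipal E := fun z => ⟨⟨⊤, hZt⟩, trivial, a, hEtop⟩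
  obtain ⟨_, _⟩ := qcqs_interior hEloc hEint
  have hG : Coh.IsQCoh G := isCut_unique_qcoh hN hπ
  have hker : LinearMap.ker (appLin π ⊤) = FlatCA.powTorsion Γ(Z, ⊤) a Γ(N, ⊤) := by
    ext m
    rw [LinearMap.mem_ker, FittX.mem_powTorsion]
    refine (hπ.2 ⊤ m).trans ⟨fun h0 => exists_pow_smul_eq_zero hN hZt a m
      (map_eq_zero_of_le inf_le_left hD.ge m h0), fun ⟨n, hn⟩ => ?_⟩
    refine map_eq_zero_of_le (Z.basicOpen_le a) hD.le m ?_
    have h1 := (map_smul' (homOfLE (Z.basicOpen_le a)) (a ^ n) m).symm.trans ((congrArg _ hn).trans (map_zero _))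
    have hu : IsUnit (Z.presheaf.map (homOfLE (Z.basicOpen_le a)).op a) := Z.toRingedSpace.isUnit_res_basicOpen a
    rw [map_pow] at h1
    exact (IsUnit.smul_eq_zero (hu.pow n)).1 h1
  let eG : (Γ(N, ⊤) ⧸ FlatCA.powTorsion Γ(Z, ⊤) a Γ(N, ⊤)) ≃ₗ[Γ(Z, ⊤)] Γ(G, ⊤) :=
    (Submodule.quotEquivOfEq _ _ hker.symm).trans ((appLin π ⊤).quotKerEquivOfSurjective
      (app_surjective_of_epi hN hG π hZt))
  haveI : Module.Finite Γ(Z, ⊤) Γ(N, ⊤) := finite_of_isFT hN hNft hZt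
  haveI : Module.Finite Γ(Z, ⊤) Γ(G, ⊤) := Module.Finite.equiv eG
  obtain ⟨hfr', -⟩ := FittX.free_of_equiv_away eG g₀ _ ⟨hfr, rfl⟩
  obtain ⟨n, hn⟩ := exists_free_nhd hG hZt g₀ hfr'
  exact ⟨n, fun y hy => ⟨_, hy, hn⟩⟩

/-- The point of an extended prime lies over it. -/
theorem point_over {Z : Scheme.{u}} [IsAffine Z] {A' : Type u} [CommRing A'] (qc : Z ⟶ Spec (CommRingCat.of A'))
    [Flat qc] [GeometricallyIntegral qc] (t' : Spec (CommRingCat.of A')) {y : Z} (hy : y ∈ (⊤ : Z.Opens))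
    {hQ : ((t' : PrimeSpectrum A').asIdeal.map
      ((Scheme.ΓSpecIso (CommRingCat.of A')).inv ≫ qc.appLE ⊤ ⊤ le_top).hom).IsPrime}
    (hyQ : (isAffineOpen_top Z).primeIdealOf ⟨y, hy⟩ = ⟨_, hQ⟩) : qc y = t' := by
  have hA't : IsAffineOpen (⊤ : (Spec (CommRingCat.of A')).Opens) := isAffineOpen_top _
  have hZt := isAffineOpen_top Z
  let ψ := (Scheme.ΓSpecIso (CommRingCat.of A')).inv ≫ qc.appLE ⊤ ⊤ le_top
  letI : Algebra A' Γ(Z, ⊤) := ψ.hom.toAlgebra
  have h1 : Spec.map ψ = hZt.fromSpec ≫ qc := by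
    have h0 : Spec.map (qc.appLE ⊤ ⊤ le_top) ≫ hA't.fromSpec = hZt.fromSpec ≫ qc :=
      IsAffineOpen.SpecMap_appLE_fromSpec qc hA't hZt le_top
    rw [IsAffineOpen.fromSpec_top, Scheme.isoSpec_Spec_inv, ← Spec.map_comp] at h0
    exact h0
  have hgi' : FlatCA.GeomIntegralFibres A' Γ(Z, ⊤) := by
    show GeometricallyIntegral (Spec.map ψ)
    rw [h1, IsAffineOpen.fromSpec_top]
    exact (MorphismProperty.cancel_left_of_respectsIso @GeometricallyIntegral _ _).2 inferInstance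
  haveI : Module.Flat A' Γ(Z, ⊤) := by
    show ψ.hom.Flat
    rw [← HasRingHomProperty.Spec_iff (P := @Flat), h1, IsAffineOpen.fromSpec_top]
    infer_instance
  obtain ⟨-, hQp⟩ := RGLib.isPrime_map_and_comap hgi' (t' : PrimeSpectrum A').asIdeal (S := Γ(Z, ⊤))
  have h2 := congr($h1 (hZt.primeIdealOf ⟨y, hy⟩))
  rw [Scheme.Hom.comp_apply, hZt.fromSpec_primeIdealOf ⟨y, hy⟩] at h2
  refine h2.symm.trans (PrimeSpectrum.ext ?_)
  rw [hyQ]
  exact hQp

/-- The strict transform is free near a point of every fibre after blowing up the ideal of `S1287`. -/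
theorem good_affine {X S : Scheme.{u}} [IsAffine S] (f : X ⟶ S) [IsAffineHom f] [LocallyOfFinitePresentation f]
    [Flat f] [GeometricallyIntegral f] (F : X.Modules) (hFq : Coh.IsQCoh F) (hft : CohB1.IsFT F) (t : Γ(S, ⊤))
    (hfp : CohB1.IsFP ((Scheme.Modules.pullback (f ⁻¹ᵁ S.basicOpen t).ι).obj F)) (r : ℕ)
    (H : ∀ s ∈ S.basicOpen t, ∃ z, f z = s ∧ FlatFun.IsFreeOfRankNear F r z) :
    Good f F (S.basicOpen t) := by
  haveI : IsAffine X := isAffine_of_isAffineHom f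
  let R := Γ(S, ⊤)
  let B := Γ(X, ⊤)
  let φ := f.appLE ⊤ ⊤ le_top
  letI : Algebra Γ(S, ⊤) Γ(X, ⊤) := φ.hom.toAlgebra
  have hSt : IsAffineOpen (⊤ : S.Opens) := isAffineOpen_top S
  have hXt : IsAffineOpen (⊤ : X.Opens) := isAffineOpen_top X
  have hgi : FlatCA.GeomIntegralFibres Γ(S, ⊤) Γ(X, ⊤) := geomIntegral_appLE f ⊤ hSt hXt
  haveI : Module.Flat Γ(S, ⊤) Γ(X, ⊤) := f.flat_appLE hSt hXt le_rfl
  haveI : Algebra.FinitePresentation Γ(S, ⊤) Γ(X, ⊤) := f.finitePresentation_appLE hSt hXt le_rfl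
  haveI : Module.Finite Γ(X, ⊤) Γ(F, ⊤) := finite_of_isFT hFq hft hXt
  letI : Module Γ(S, ⊤) Γ(F, ⊤) := Module.compHom _ φ.hom
  haveI : IsScalarTower Γ(S, ⊤) Γ(X, ⊤) Γ(F, ⊤) := .of_algebraMap_smul fun _ _ => rfl
  let tX : Γ(X, ⊤) := φ t
  have hDX : f ⁻¹ᵁ S.basicOpen t = X.basicOpen tX := by
    simp only [tX, φ]
    rw [Scheme.preimage_basicOpen, Scheme.Hom.app_eq_appLE]
    rfl
  have hfp' : Module.FinitePresentation (Localization.Away (algebraMap Γ(S, ⊤) Γ(X, ⊤) t))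
      (LocalizedModule (Submonoid.powers (algebraMap Γ(S, ⊤) Γ(X, ⊤) t)) Γ(F, ⊤)) := by
    change Module.FinitePresentation (Localization.Away tX) (LocalizedModule (Submonoid.powers tX) Γ(F, ⊤))
    rw [hDX] at hfp
    have hD : IsAffineOpen (X.basicOpen tX) := hXt.basicOpen tX
    letI := basicModule tX F
    haveI := hXt.isLocalization_basicOpen tX
    haveI := isLocalizedModule_basicRes tX hFq hXt
    haveI : IsScalarTower Γ(X, ⊤) Γ(X, X.basicOpen tX) Γ(F, X.basicOpen tX) := .of_algebraMap_smul fun _ _ => rfl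
    haveI : Module.FinitePresentation Γ(X, X.basicOpen tX) Γ(F, X.basicOpen tX) :=
      finitePresentation_of_pullback hFq hfp hD
    obtain ⟨i, j, hij⟩ := exists_semilinear (Submonoid.powers tX) (Localization.Away tX) Γ(X, X.basicOpen tX)
      (LocalizedModule.mkLinearMap (Submonoid.powers tX) Γ(F, ⊤)) (basicRes tX F)
    exact fp_of_semilinear i j hij
  have hfree : ∀ (p : Ideal Γ(S, ⊤)) [p.IsPrime] [(p.map (algebraMap Γ(S, ⊤) Γ(X, ⊤))).IsPrime], t ∉ p →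
      Module.Free (Localization.AtPrime (p.map (algebraMap Γ(S, ⊤) Γ(X, ⊤))))
        (LocalizedModule (p.map (algebraMap Γ(S, ⊤) Γ(X, ⊤))).primeCompl Γ(F, ⊤)) ∧
      Module.rank (Localization.AtPrime (p.map (algebraMap Γ(S, ⊤) Γ(X, ⊤))))
        (LocalizedModule (p.map (algebraMap Γ(S, ⊤) Γ(X, ⊤))).primeCompl Γ(F, ⊤)) = r := by
    intro p hp _ htp
    obtain ⟨s, hs, hsp⟩ := exists_point hSt ⟨p, hp⟩
    have hst : s ∈ S.basicOpen t := by
      by_contra hne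
      rw [← BlowSep.prime_iff hSt hs, hsp] at hne
      exact htp hne
    obtain ⟨z, hz, hnear⟩ := H s hst
    obtain ⟨η, hη, hgen, -⟩ := FreeGenPts.exists_generic f z
    obtain ⟨hfr, hrk⟩ := FreeGenPts.stalk_of_near hFq (generic_near f hgen hη.symm hnear)
    have hfη : f η = s := hη.trans hz
    have hP : (hXt.primeIdealOf ⟨η, trivial⟩).asIdeal = p.map (algebraMap Γ(S, ⊤) Γ(X, ⊤)) := by
      have h1 := primeIdealOf_eq_map_of_generic f hSt hXt (η := η) trivial hgen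
      refine h1.trans ?_
      congr 1
      subst hfη
      exact congrArg PrimeSpectrum.asIdeal hsp
    letI := stalkAlg (X := X) (U := ⊤) (x := η) trivial
    letI := stalkModule F (U := ⊤) (x := η) trivial
    haveI := isScalarTower_stalk F (U := ⊤) (x := η) trivial
    haveI hl1 := isLocalization_stalk' hXt (x := η) trivial
    haveI hl2 := isLocalizedModule_germLin hFq hXt (x := η) trivial
    simp only [hP] at hl1 hl2
    haveI := hl1
    haveI := hl2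
    haveI := finite_stalk_of_isFT hFq hft η
    obtain ⟨i, j, hij⟩ := exists_semilinear (p.map (algebraMap Γ(S, ⊤) Γ(X, ⊤))).primeCompl
      (Localization.AtPrime (p.map (algebraMap Γ(S, ⊤) Γ(X, ⊤)))) (X.presheaf.stalk η)
      (LocalizedModule.mkLinearMap (p.map (algebraMap Γ(S, ⊤) Γ(X, ⊤))).primeCompl Γ(F, ⊤)) (germLin F (U := ⊤) (x := η) trivial)
    obtain ⟨h1, h2⟩ := free_rank_of_semilinear i j hij
    exact ⟨h1, h2.trans (by rw [← Module.finrank_eq_rank, hrk])⟩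
  obtain ⟨I, hI, hrad, hmain⟩ := S1287.result hgi t r Γ(F, ⊤) hfp' hfree
  let 𝓙 : S.IdealSheafData := IdealSheafData.ofIdealTop I
  have hJtop : 𝓙.ideal ⟨⊤, hSt⟩ = I := by
    simp only [𝓙, IdealSheafData.ofIdealTop_ideal]
    erw [S.presheaf.map_id, Ideal.map_id]
  have hJft : BlowUp.IsFiniteTypeIdeal 𝓙 := fun V => by
    simp only [𝓙, IdealSheafData.ofIdealTop_ideal]
    exact hI.map _
  have hJint : ModPair.interior 𝓙 = S.basicOpen t := by
    ext s
    show s ∉ (𝓙.support : Set S) ↔ s ∈ S.basicOpen t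
    rw [BlowSep.mem_support_iff_le_prime 𝓙 (U := ⟨⊤, hSt⟩) trivial, hJtop]
    have hpr := (hSt.primeIdealOf ⟨s, trivial⟩).isPrime
    rw [← hpr.radical_le_iff, hrad, hpr.radical_le_iff, Ideal.span_singleton_le_iff_mem,
      BlowSep.prime_iff hSt trivial, not_not]
  let b : BlowUpLib.localBlowUp I ⟶ S := BlowUpLib.toBase I ≫ S.isoSpec.inv
  have hb : BlowUp.IsBlowUp b 𝓙 := by
    refine BlowUpLib.isBlowUp_comp_iso S.isoSpec.inv ?_
    rw [← IsAffineOpen.fromSpec_top, BlowUpLib.comap_fromSpec 𝓙 ⟨⊤, hSt⟩, hJtop]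
    exact BlowUpLib.isBlowUp_local I
  refine ⟨𝓙, _, b, hb, hJft, hJint, fun X' p₁ p₂ sq => freeSurj_of_cover fun t₁ => ?_⟩
  obtain ⟨a, ha⟩ := BlowUpLib.chart_covers I t₁
  let A' := BlowUp.affineAlgebra Γ(S, ⊤) I (a : Γ(S, ⊤))
  let c := BlowUpLib.chart I a
  refine ⟨_, pullback p₂ c, c, pullback.fst p₂ c, pullback.snd p₂ c, inferInstance,
    IsPullback.of_hasPullback p₂ c, ha, ?_⟩
  let Z := pullback p₂ c
  let qc : Z ⟶ Spec (CommRingCat.of A') := pullback.snd p₂ c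
  haveI : Flat p₂ := MorphismProperty.of_isPullback sq inferInstance
  haveI : IsAffineHom p₂ := MorphismProperty.of_isPullback sq inferInstance
  haveI : GeometricallyIntegral p₂ := MorphismProperty.of_isPullback sq inferInstance
  haveI : IsAffine Z := isAffine_of_isAffineHom qc
  let h : Z ⟶ X := pullback.fst p₂ c ≫ p₁
  let g : Spec (CommRingCat.of A') ⟶ S := c ≫ b
  have hc : IsPullback h qc f g := (IsPullback.of_hasPullback p₂ c).paste_horiz sq
  let ε := Scheme.ΓSpecIso (CommRingCat.of A')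
  have hA't : IsAffineOpen (⊤ : (Spec (CommRingCat.of A')).Opens) := isAffineOpen_top _
  have hZt : IsAffineOpen (⊤ : Z.Opens) := isAffineOpen_top Z
  have hgapp : g.appLE ⊤ ⊤ le_top = CommRingCat.ofHom (algebraMap Γ(S, ⊤) A') ≫ ε.inv :=
    appLE_chart g (algebraMap Γ(S, ⊤) A') (by simp only [g, b, c]; rw [BlowUpLib.chart_toBase_assoc])
  have hpo₀ := (isIso_pushoutSection_iff hc (US := ⊤) (UX := ⊤) (UT := ⊤) le_top le_top (UY := ⊤) (by simp)).mp
    (isIso_pushoutSection_of_isAffineOpen hc (US := ⊤) (UX := ⊤) (UT := ⊤) le_top le_top (by simp) hSt hA't hXt)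
  letI : Algebra A' Γ(Z, ⊤) := (ε.inv ≫ qc.appLE ⊤ ⊤ le_top).hom.toAlgebra
  letI : Algebra Γ(X, ⊤) Γ(Z, ⊤) := (h.appLE ⊤ ⊤ le_top).hom.toAlgebra
  letI : Algebra Γ(S, ⊤) Γ(Z, ⊤) := (φ ≫ h.appLE ⊤ ⊤ le_top).hom.toAlgebra
  have hpo : IsPushout φ (CommRingCat.ofHom (algebraMap Γ(S, ⊤) A')) (h.appLE ⊤ ⊤ le_top)
      (ε.inv ≫ qc.appLE ⊤ ⊤ le_top) :=
    hpo₀.of_iso (Iso.refl _) (Iso.refl _) ε (Iso.refl _) (by simp [φ]) (by simp [hgapp]) (by simp) (by simp)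
  haveI : IsScalarTower Γ(S, ⊤) Γ(X, ⊤) Γ(Z, ⊤) := .of_algebraMap_eq fun _ => rfl
  haveI : IsScalarTower Γ(S, ⊤) A' Γ(Z, ⊤) := .of_algebraMap_eq fun x => congr($(hpo.w).hom x)
  haveI : Algebra.IsPushout Γ(S, ⊤) Γ(X, ⊤) A' Γ(Z, ⊤) := CommRingCat.isPushout_iff_isPushout.mp hpo
  let N := (Scheme.Modules.pullback h).obj F
  letI : Module Γ(X, ⊤) Γ(N, ⊤) := Module.compHom _ (h.appLE ⊤ ⊤ le_top).hom
  haveI : IsScalarTower Γ(X, ⊤) Γ(Z, ⊤) Γ(N, ⊤) := .of_algebraMap_smul fun _ _ => rfl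
  obtain ⟨l, -, hl⟩ := ExistEasy.exists_pullSec_baseChange h hFq hZt hXt (le_top : (⊤ : Z.Opens) ≤ h ⁻¹ᵁ ⊤)
  have hmain' := hmain a a.2 Γ(Z, ⊤) Γ(N, ⊤) l hl
  intro G π hπ t'
  let eN : N ≅ (Scheme.Modules.pullback (pullback.fst p₂ c)).obj ((Scheme.Modules.pullback p₁).obj F) :=
    ((Scheme.Modules.pullbackComp (pullback.fst p₂ c) p₁).symm).app F
  have hπ' := isCut_iso_comp eN hπ
  have hI' : (𝓙.ideal ⟨⊤, isAffineOpen_top S⟩).map (algebraMap Γ(S, ⊤) A') =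
      Ideal.span {algebraMap Γ(S, ⊤) A' (a : Γ(S, ⊤))} := by
    rw [show 𝓙.ideal ⟨⊤, isAffineOpen_top S⟩ = I from hJtop]
    exact map_frac I a
  have hEtop : ((𝓙.comap g).comap qc).ideal ⟨⊤, hZt⟩ = Ideal.span {algebraMap Γ(S, ⊤) Γ(Z, ⊤) (a : Γ(S, ⊤))} := by
    rw [IsScalarTower.algebraMap_apply Γ(S, ⊤) A' Γ(Z, ⊤) (a : Γ(S, ⊤))]
    exact ideal_top_chart g qc (algebraMap Γ(S, ⊤) A') hgapp 𝓙 _ hI'
  have hEint : ModPair.interior ((𝓙.comap g).comap qc) = qc ⁻¹ᵁ (c ⁻¹ᵁ (b ⁻¹ᵁ S.basicOpen t)) := by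
    rw [← ModPairLib.preimage_interior, ← ModPairLib.preimage_interior, hJint]
    rfl
  obtain ⟨g₀, hg₀, hfr, -⟩ := hmain' (t' : PrimeSpectrum A').asIdeal
  obtain ⟨n, hn⟩ := near_of_free_quotient (isQCoh_pullback h hFq) (isFT_pullback h hFq hft) _ hEtop hEint hπ' g₀ hfr
  -- the point of the fibre
  haveI : Module.Projective Γ(S, ⊤) Γ(X, ⊤) := ProjLocalFree.projective_of_geomIntegral hgi
  haveI : Algebra.IsPushout Γ(S, ⊤) A' Γ(X, ⊤) Γ(Z, ⊤) := Algebra.IsPushout.symm inferInstance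
  haveI hQ := FlatBlow.isPrime_map_pushout hgi (S := Γ(X, ⊤)) (S' := Γ(Z, ⊤)) (t' : PrimeSpectrum A').asIdeal
  obtain ⟨y, hy, hyQ⟩ := exists_point hZt ⟨_, hQ⟩
  refine ⟨y, n, point_over qc t' hy hyQ, hn y ((mem_basicOpen_iff_notMem hZt hy g₀).2 ?_)⟩
  rw [hyQ]
  exact hg₀

end Groth.Agent.StrictFun
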