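import Groth.Agent.FittX.StrictSheaf
import Groth.Agent.QCoh.PullbackBC
import Groth.Agent.QCoh.FlatOver
import Groth.Agent.BlowSep.Basic
import Groth.Agent.MorLib.IdealFG2

/-!
# Strict transforms as quotients by the sections supported outside an open
-/

universe u

set_option autoImplicit false
set_option linter.style.haveILetI false
set_option backward.isDefEq.respectTransparency false
set_option backward.isDefEq.respectTransparency.types false

open CategoryTheory CategoryTheory.Limits AlgebraicGeometry TopologicalSpace Opposite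
open Scheme (IdealSheafData)

namespace Groth.Agent.StrictFun

open Groth.Agent.QCoh

variable {Y : Scheme.{u}} {M G : Y.Modules}

/-- Restriction of a section to the part of `V` inside `D`. -/
noncomputable abbrev cutRes (D : Y.Opens) (M : Y.Modules) {V : Y.Opens} (m : Γ(M, V)) : Γ(M, V ⊓ D) :=
  M.presheaf.map (homOfLE (inf_le_left : V ⊓ D ≤ V)).op m

/-- `π` is the quotient by the sections vanishing on `D`. -/
def IsCut (D : Y.Opens) (π : M ⟶ G) : Prop :=
  Epi π ∧ ∀ (V : Y.Opens) (m : Γ(M, V)), π.app V m = 0 ↔ cutRes D M m = 0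

/-- Inside `W`, the module has no section supported outside `D`. -/
def NoSupp (D : Y.Opens) (G : Y.Modules) (W : Y.Opens) : Prop :=
  ∀ (V : Y.Opens), V ≤ W → ∀ m : Γ(G, V), cutRes D G m = 0 → m = 0

theorem cutRes_map (D : Y.Opens) {V V' : Y.Opens} (h : V' ≤ V) (m : Γ(M, V)) :
    cutRes D M (M.presheaf.map (homOfLE h).op m) =
      M.presheaf.map (homOfLE (inf_le_inf_right D h)).op (cutRes D M m) :=
  (map_map _ _ _).trans ((map_map _ _ _).trans (congrArg (fun i => M.presheaf.map i m) (Subsingleton.elim _ _))).symm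

theorem cutRes_app (D : Y.Opens) (φ : M ⟶ G) {V : Y.Opens} (m : Γ(M, V)) :
    cutRes D G (φ.app V m) = φ.app (V ⊓ D) (cutRes D M m) :=
  (map_app_comm φ _ m).symm

theorem map_eq_zero_of_le {A B C : Y.Opens} (h₁ : B ≤ A) (h₂ : C ≤ B) (m : Γ(M, A))
    (h : M.presheaf.map (homOfLE h₁).op m = 0) : M.presheaf.map (homOfLE (h₂.trans h₁)).op m = 0 :=
  (map_map (homOfLE h₂) (homOfLE h₁) m).symm.trans ((congrArg _ h).trans (map_zero _))

theorem eq_zero_cover {V : Y.Opens} (m : Γ(M, V))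
    (h : ∀ p ∈ V, ∃ (W : Y.Opens) (hW : W ≤ V), p ∈ W ∧ M.presheaf.map (homOfLE hW).op m = 0) : m = 0 :=
  eq_zero_of_locally V m fun p hp => let ⟨W, hW, hpW, h0⟩ := h p hp; ⟨W, homOfLE hW, hpW, h0⟩

/-- Being killed by a power of a finitely generated ideal is vanishing off its zero locus. -/
theorem killed_iff_cutRes {E : Y.IdealSheafData} (hE : BlowUp.IsFiniteTypeIdeal E) (hM : Coh.IsQCoh M)
    (V : Y.affineOpens) (m : Γ(M, V.1)) :
    BlowUp.KilledByPowerNear E M V m ↔ cutRes (ModPair.interior E) M m = 0 := by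
  constructor
  · rintro ⟨n, hn⟩
    refine eq_zero_cover _ fun p hp => ?_
    obtain ⟨a, ha, hpa⟩ : ∃ a ∈ E.ideal V, p ∈ Y.basicOpen a := by
      by_contra hne
      push Not at hne
      exact (show p ∉ E.support from hp.2) ((BlowSep.mem_support_iff_notMem E hp.1).2 hne)
    refine ⟨V.1 ⊓ ModPair.interior E ⊓ Y.basicOpen a, inf_le_left, ⟨hp, hpa⟩, ?_⟩
    refine (map_map _ _ m).trans (map_eq_zero_of_le (Y.basicOpen_le a) inf_le_right m ?_)
    have h0 := congrArg (M.presheaf.map (homOfLE (Y.basicOpen_le a)).op)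
      (hn (a ^ n) (by rw [IdealSheafData.ideal_pow]; exact Ideal.pow_mem_pow ha n))
    refine (IsUnit.smul_eq_zero ?_).1 ((map_smul' _ (a ^ n) m).symm.trans (h0.trans (map_zero _)))
    rw [map_pow]
    exact (Y.toRingedSpace.isUnit_res_basicOpen a).pow n
  · intro h
    let A : Ideal Γ(Y, V.1) :=
      { carrier := {a | a • m = 0}
        add_mem' := fun {a b} (ha : a • m = 0) (hb : b • m = 0) => by
          show (a + b) • m = 0
          rw [add_smul, ha, hb, add_zero]
        zero_mem' := zero_smul _ m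
        smul_mem' := fun c a (ha : a • m = 0) => by
          show (c * a) • m = 0
          rw [mul_smul, ha, smul_zero] }
    have hrad : E.ideal V ≤ A.radical := fun a ha => by
      have hle : Y.basicOpen a ≤ V.1 ⊓ ModPair.interior E := by
        refine le_inf (Y.basicOpen_le a) fun z hz hzs => ?_
        exact (BlowSep.mem_support_iff_notMem E (Y.basicOpen_le a hz)).1 hzs a ha hz
      obtain ⟨n, hn⟩ := exists_pow_smul_eq_zero hM V.2 a m (map_eq_zero_of_le inf_le_left hle m h)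
      exact ⟨n, hn⟩
    obtain ⟨n, hn⟩ := Ideal.exists_pow_le_of_le_radical_of_fg hrad (hE V)
    exact ⟨n, fun a ha => hn (by rwa [IdealSheafData.ideal_pow] at ha)⟩

theorem isCut_of_strict {E : Y.IdealSheafData} (hE : BlowUp.IsFiniteTypeIdeal E) (hM : Coh.IsQCoh M) {π : M ⟶ G}
    (h : FittX.IsStrictKer E π) : IsCut (ModPair.interior E) π := by
  refine ⟨h.1, fun V m => ⟨fun h0 => ?_, fun h0 => ?_⟩⟩ <;> refine eq_zero_cover _ fun p hp => ?_
  · obtain ⟨_, ⟨W, hW, rfl⟩, hpW, hWV'⟩ :=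
      Y.isBasis_affineOpens.exists_subset_of_mem_open (show p ∈ V from hp.1) V.2
    have hWV : W ≤ V := hWV'
    have h1 := (killed_iff_cutRes hE hM ⟨W, hW⟩ _).1 ((h.2 ⟨W, hW⟩ (M.presheaf.map (homOfLE hWV).op m)).1
      ((map_app_comm π _ m).trans ((congrArg _ h0).trans (map_zero _))))
    rw [cutRes_map] at h1
    exact ⟨W ⊓ ModPair.interior E, inf_le_inf_right _ hWV, ⟨hpW, hp.2⟩, h1⟩
  · obtain ⟨_, ⟨W, hW, rfl⟩, hpW, hWV'⟩ := Y.isBasis_affineOpens.exists_subset_of_mem_open (show p ∈ V from hp) V.2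
    have hWV : W ≤ V := hWV'
    refine ⟨W, hWV, hpW, (map_app_comm π _ m).symm.trans ((h.2 ⟨W, hW⟩ _).2 ?_)⟩
    rw [killed_iff_cutRes hE hM, cutRes_map, h0, map_zero]

theorem strict_of_isCut {E : Y.IdealSheafData} (hE : BlowUp.IsFiniteTypeIdeal E) (hM : Coh.IsQCoh M) {π : M ⟶ G}
    (h : IsCut (ModPair.interior E) π) : FittX.IsStrictKer E π :=
  ⟨h.1, fun V m => (h.2 V.1 m).trans (killed_iff_cutRes hE hM V m).symm⟩

theorem exists_isCut (hM : Coh.IsQCoh M) (D : Y.Opens) [QuasiCompact D.ι] [QuasiSeparated D.ι] :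
    ∃ (G : Y.Modules) (π : M ⟶ G), Coh.IsQCoh G ∧ IsCut D π := by
  let u := (Scheme.Modules.restrictAdjunction D.ι).unit.app M
  have hP : Coh.IsQCoh ((Scheme.Modules.pushforward D.ι).obj (M.restrict D.ι)) :=
    isQCoh_pushforward _ (isQCoh_restrict _ hM)
  have hK := isQCoh_kernel hM hP u
  refine ⟨cokernel (kernel.ι u), cokernel.π _, isQCoh_cokernel hK hM _, inferInstance, fun V m => ?_⟩
  have hs : (ShortComplex.mk (kernel.ι u) (cokernel.π (kernel.ι u)) (cokernel.condition _)).ShortExact :=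
    .mk' (ShortComplex.exact_of_g_is_cokernel _ (cokernelIsCokernel _)) inferInstance inferInstance
  rw [← FittX.unit_app_eq_zero_iff D m]
  constructor
  · intro h0
    obtain ⟨a, ha⟩ := exists_app_f_eq hs V m h0
    rw [← ha]
    exact (congr(($(kernel.condition u)).app V a) :)
  · intro h0
    refine app_injective (Abelian.factorThruCoimage u) V ?_
    rw [map_zero, ← h0]
    exact (congr(($(Abelian.coimage.fac u)).app V m) :)

theorem noSupp_of_isCut {D : Y.Opens} {π : M ⟶ G} (h : IsCut D π) (hM : Coh.IsQCoh M) (hG : Coh.IsQCoh G)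
    (W : Y.Opens) : NoSupp D G W := by
  intro V _ y hy
  haveI := h.1
  refine eq_zero_cover _ fun p hp => ?_
  obtain ⟨_, ⟨U, hU, rfl⟩, hpU, hUV'⟩ := Y.isBasis_affineOpens.exists_subset_of_mem_open (show p ∈ V from hp) V.2
  have hUV : U ≤ V := hUV'
  refine ⟨U, hUV, hpU, ?_⟩
  obtain ⟨m, hm⟩ := app_surjective_of_epi hM hG π hU (G.presheaf.map (homOfLE hUV).op y)
  rw [← hm, h.2]
  have h1 : π.app (U ⊓ D) (cutRes D M m) = 0 := by
    rw [← cutRes_app, hm, cutRes_map, hy, map_zero]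
  exact ((map_map (homOfLE (le_inf le_rfl inf_le_right : U ⊓ D ≤ U ⊓ D ⊓ D)) (homOfLE inf_le_left)
    (cutRes D M m)).trans (map_id' _ _)).symm.trans ((congrArg _ ((h.2 _ _).1 h1)).trans (map_zero _))

variable {Z : Scheme.{u}} (h : Z ⟶ Y) {D : Y.Opens} {D' : Z.Opens} {π : M ⟶ G} {G' : Z.Modules}
  {π' : (Scheme.Modules.pullback h).obj M ⟶ G'}

theorem exists_desc (hD : D' ≤ h ⁻¹ᵁ D) (hπ : IsCut D π) (hπ' : IsCut D' π') :
    ∃ ψ : (Scheme.Modules.pullback h).obj G ⟶ G', (Scheme.Modules.pullback h).map π ≫ ψ = π' := by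
  haveI := hπ.1
  let adj := Scheme.Modules.pullbackPushforwardAdjunction h
  let φ := adj.homEquiv _ _ π'
  have hφ : kernel.ι π ≫ φ = 0 := by
    refine Scheme.Modules.hom_ext _ _ fun V => ?_
    ext x
    let m := (kernel.ι π).app V x
    have hm : cutRes D M m = 0 := (hπ.2 V m).1 (congr(($(kernel.condition π)).app V x) :)
    show π'.app (h ⁻¹ᵁ V) ((adj.unit.app M).app V m) = 0
    rw [hπ'.2]
    have h1 : ((Scheme.Modules.pushforward h).obj ((Scheme.Modules.pullback h).obj M)).presheaf.map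
        (homOfLE (inf_le_left : V ⊓ D ≤ V)).op ((adj.unit.app M).app V m) = 0 :=
      (map_app_comm (adj.unit.app M) _ m).symm.trans ((congrArg _ hm).trans (map_zero _))
    exact map_eq_zero_of_le (M := (Scheme.Modules.pullback h).obj M) (A := h ⁻¹ᵁ V) (B := h ⁻¹ᵁ (V ⊓ D))
      (C := h ⁻¹ᵁ V ⊓ D') (fun z hz => hz.1) (fun z hz => ⟨hz.1, hD hz.2⟩) _ h1
  refine ⟨(adj.homEquiv _ _).symm (Abelian.epiDesc π φ hφ), ?_⟩
  rw [← Adjunction.homEquiv_naturality_left_symm, Abelian.comp_epiDesc]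
  exact (adj.homEquiv _ _).symm_apply_apply π'

/-- A quotient map of pullbacks is an isomorphism where the source has no section supported outside. -/
theorem isIso_desc (hM : Coh.IsQCoh M) (hG : Coh.IsQCoh G) (hπ : IsCut D π) (hπ' : IsCut D' π')
    {ψ : (Scheme.Modules.pullback h).obj G ⟶ G'} (hψ : (Scheme.Modules.pullback h).map π ≫ ψ = π') (W : Z.Opens)
    (hns : NoSupp D' ((Scheme.Modules.pullback h).obj G) W) :
    IsIso ((Scheme.Modules.restrictFunctor W.ι).map ψ) := by
  haveI := hπ.1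
  haveI := hπ'.1
  haveI : Epi ((Scheme.Modules.pullback h).map π) := inferInstance
  haveI : Epi ψ := by
    haveI : Epi ((Scheme.Modules.pullback h).map π ≫ ψ) := hψ ▸ hπ'.1
    exact epi_of_epi ((Scheme.Modules.pullback h).map π) ψ
  haveI : Epi ((Scheme.Modules.restrictFunctor W.ι).map ψ) := inferInstance
  haveI : Mono ((Scheme.Modules.restrictFunctor W.ι).map ψ) := mono_of_app_injective _ fun U => by
    rw [injective_iff_map_eq_zero]
    intro y hy
    change ψ.app (W.ι ''ᵁ U) y = 0 at hy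
    refine eq_zero_cover (M := (Scheme.Modules.pullback h).obj G) (V := W.ι ''ᵁ U) y fun p hp => ?_
    obtain ⟨_, ⟨V, hV, rfl⟩, hpV, hVU'⟩ :=
      Z.isBasis_affineOpens.exists_subset_of_mem_open hp (W.ι ''ᵁ U).2
    have hVU : V ≤ W.ι ''ᵁ U := hVU'
    refine ⟨V, hVU, hpV, ?_⟩
    obtain ⟨m, hm⟩ := app_surjective_of_epi (isQCoh_pullback h hM) (isQCoh_pullback h hG)
      ((Scheme.Modules.pullback h).map π) hV (((Scheme.Modules.pullback h).obj G).presheaf.map (homOfLE hVU).op y)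
    have h0 : π'.app V m = 0 := by
      rw [← hψ]
      show ψ.app V (((Scheme.Modules.pullback h).map π).app V m) = 0
      rw [hm, map_app_comm, hy, map_zero]
    rw [← hm]
    refine hns V ((hVU.trans (W.ι.image_le_opensRange U)).trans W.opensRange_ι.le) _ ?_
    rw [cutRes_app, (hπ'.2 V m).1 h0, map_zero]
  exact isIso_of_mono_of_epi _

/-- No supported sections, from charts. -/
theorem noSupp_of_charts (hG : Coh.IsQCoh G) (W : Y.Opens)
    (hc : ∀ (p : Y) (V : Y.Opens), p ∈ V → V ≤ W → ∃ (U : Y.affineOpens) (a : Γ(Y, U.1)), p ∈ U.1 ∧ U.1 ≤ V ∧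
      U.1 ⊓ D = Y.basicOpen a ∧ ∀ m : Γ(G, U.1), a • m = 0 → m = 0) : NoSupp D G W := by
  intro V hVW y hy
  refine eq_zero_cover _ fun p hp => ?_
  obtain ⟨U, a, hpU, hUV, he, ha⟩ := hc p V hp hVW
  refine ⟨U.1, hUV, hpU, ?_⟩
  have h1 : cutRes D G (G.presheaf.map (homOfLE hUV).op y) = 0 := by rw [cutRes_map, hy, map_zero]
  obtain ⟨n, hn⟩ := exists_pow_smul_eq_zero hG U.2 a _ (map_eq_zero_of_le inf_le_left he.ge _ h1)
  induction n with
  | zero => rwa [pow_zero, one_smul] at hn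
  | succ n ih =>
    rw [pow_succ', mul_smul] at hn
    exact ih (ha _ hn)

end Groth.Agent.StrictFun
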