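import Groth.Agent.StrictFun.EtaleBlow
import Groth.Agent.BlowUpLib.Glue

/-!
# One admissible blow-up for finitely many admissible blow-ups of etale schemes over the base
-/

universe u

set_option autoImplicit false
set_option linter.style.haveILetI false
set_option backward.isDefEq.respectTransparency false
set_option backward.isDefEq.respectTransparency.types false
attribute [-instance] CategoryTheory.catToReflQuiver

open CategoryTheory CategoryTheory.Limits AlgebraicGeometry TopologicalSpace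
open Scheme (IdealSheafData)

namespace Groth.Agent.StrictFun

/-- A blow-up of the base in an ideal with zero locus the complement of `U` under which all the given
admissible centres become invertible. -/
theorem exists_common_blowUp {S : Scheme.{u}} [CompactSpace S] [QuasiSeparatedSpace S] (U : S.Opens)
    (hU : IsCompact (U : Set S)) {k : ℕ} (Si : Fin k → Scheme.{u}) (e : ∀ i, Si i ⟶ S)
    [∀ i, Etale (e i)] [∀ i, QuasiCompact (e i)] (𝓘 : ∀ i, (Si i).IdealSheafData)
    (h𝓘 : ∀ i, BlowUp.IsAdmissibleFor ((e i) ⁻¹ᵁ U) (𝓘 i)) :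
    ∃ (𝓙 : S.IdealSheafData) (S' : Scheme.{u}) (b : S' ⟶ S), BlowUp.IsBlowUp b 𝓙 ∧
      BlowUp.IsAdmissibleFor U 𝓙 ∧ ModPair.interior 𝓙 = U ∧
      ∀ i, BlowUp.IsEffCartierIdeal ((𝓘 i).comap (pullback.fst (e i) b)) := by
  classical
  obtain ⟨K₀, hK₀, hK₀s⟩ := BlowSep.exists_ft_support_eq (U : Set S)ᶜ U.2.isClosed_compl
    (by rwa [compl_compl])
  obtain ⟨S₀, b₀, hb₀⟩ := BlowUpLib.exists_blowUp K₀
  haveI := BlowUpLib.isProper_of_isBlowUp K₀ hb₀ hK₀
  haveI : CompactSpace S₀ := QuasiCompact.compactSpace_of_compactSpace b₀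
  haveI : QuasiSeparatedSpace S₀ := quasiSeparatedSpace_of_quasiSeparated b₀
  let W := fun i => pullback (e i) b₀
  haveI : ∀ i, Etale (pullback.snd (e i) b₀) := fun i =>
    MorphismProperty.pullback_snd _ _ inferInstance
  haveI : ∀ i, CompactSpace (W i) := fun i => QuasiCompact.compactSpace_of_compactSpace (pullback.snd (e i) b₀)
  have hsupp : ∀ i, ∀ w ∈ ((𝓘 i).comap (pullback.fst (e i) b₀)).support,
      pullback.snd (e i) b₀ w ∈ (K₀.comap b₀).support := by
    intro i w hw
    rw [IdealSheafData.support_comap] at hw ⊢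
    show b₀ (pullback.snd (e i) b₀ w) ∈ (K₀.support : Set S)
    rw [hK₀s, ← Scheme.Hom.comp_apply, ← pullback.condition]
    exact fun hU' => Set.disjoint_left.1 (h𝓘 i).2 hw hU'
  choose K hK hKs hcart using fun i => exists_ideal_cartier hb₀.1 (pullback.snd (e i) b₀)
    (MorLib.IdealFG.isFG_comap (h𝓘 i).1 (pullback.fst (e i) b₀)) (hsupp i)
  obtain ⟨S', b', hb'⟩ := BlowUpLib.exists_blowUp (∏ i, K i)
  obtain ⟨𝓙, h𝓙, h𝓙s, hb⟩ := S1694.result S K₀ hK₀ b₀ hb₀ _ (isFG_prod Finset.univ K fun i _ => hK i) b' hb'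
  have hsupp𝓙 : (𝓙.support : Set S) = (U : Set S)ᶜ := by
    rw [h𝓙s, hK₀s, Set.union_eq_left]
    rintro _ ⟨x, hx, rfl⟩
    have h1 := support_prod_subset Finset.univ K _ (fun i _ => hKs i) hx
    rw [IdealSheafData.support_comap] at h1
    exact hK₀s.le h1
  refine ⟨𝓙, S', b' ≫ b₀, hb, ⟨h𝓙, hsupp𝓙 ▸ disjoint_compl_left⟩, ?_, fun i => ?_⟩
  · ext x
    show x ∉ (𝓙.support : Set S) ↔ _
    rw [hsupp𝓙, Set.notMem_compl_iff]
  let p : pullback (e i) (b' ≫ b₀) ⟶ W i :=
    pullback.lift (pullback.fst _ _) (pullback.snd _ _ ≫ b') (by rw [pullback.condition, Category.assoc])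
  have hp : IsPullback p (pullback.snd (e i) (b' ≫ b₀)) (pullback.snd (e i) b₀) b' := by
    refine IsPullback.of_right ?_ (pullback.lift_snd _ _ _) (IsPullback.of_hasPullback (e i) b₀)
    rw [pullback.lift_fst]
    exact IsPullback.of_hasPullback (e i) (b' ≫ b₀)
  have h1 : BlowUp.IsEffCartierIdeal ((K i).comap b') := by
    refine BlowUpX.isEffCartier_left_of_mul (J := (∏ v ∈ Finset.univ.erase i, K v).comap b') ?_
    rw [← ModPairLib.ideal_comap_mul, Finset.mul_prod_erase _ K (Finset.mem_univ i)]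
    exact hb'.1
  have h2 := hcart i b' p _ hp h1
  rwa [← IdealSheafData.comap_comp, pullback.lift_fst] at h2

end Groth.Agent.StrictFun
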