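import Groth.Agent.StrictFun.Basic
import Groth.Agent.ExistEasy.PP.PullSec
import Mathlib.AlgebraicGeometry.Morphisms.Flat

/-!
# Modules without sections supported on a divisor
-/

universe u

set_option autoImplicit false
set_option linter.style.haveILetI false
set_option backward.isDefEq.respectTransparency false
set_option backward.isDefEq.respectTransparency.types false

open CategoryTheory CategoryTheory.Limits AlgebraicGeometry TopologicalSpace Opposite TensorProduct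
open Scheme (IdealSheafData)

namespace Groth.Agent.StrictFun

open Groth.Agent.QCoh

variable {Y Z : Scheme.{u}}

theorem exists_principal_le {E : Y.IdealSheafData} (hE : ModPairLib.IsLocPrincipal E) {p : Y} {V : Y.Opens}
    (hp : p ∈ V) : ∃ (U : Y.affineOpens) (a : Γ(Y, U.1)), p ∈ U.1 ∧ U.1 ≤ V ∧ E.ideal U = Ideal.span {a} := by
  obtain ⟨U, hpU, a, ha⟩ := hE p
  obtain ⟨r, hrV, hpr⟩ := U.2.exists_basicOpen_le ⟨p, hp⟩ hpU
  refine ⟨⟨Y.basicOpen r, U.2.basicOpen r⟩, Y.presheaf.map (homOfLE (Y.basicOpen_le r)).op a, hpr, hrV, ?_⟩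
  rw [← E.map_ideal (show (⟨Y.basicOpen r, U.2.basicOpen r⟩ : Y.affineOpens) ≤ U from Y.basicOpen_le r),
    ha, Ideal.map_span, Set.image_singleton]
  rfl

theorem isFG_of_isLocPrincipal {E : Y.IdealSheafData} (hE : ModPairLib.IsLocPrincipal E) :
    BlowUp.IsFiniteTypeIdeal E := fun V => MorLib.IdealFG.fg_of_cover _ V fun x hx => by
  obtain ⟨U, a, hxU, hUV, ha⟩ := exists_principal_le hE (V := V.1) hx
  exact ⟨U, hxU, ha ▸ Submodule.fg_span_singleton a⟩

theorem inf_interior_pullback {E : Y.IdealSheafData} (h : Z ⟶ Y) (O : Y.affineOpens) {a : Γ(Y, O.1)}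
    (ha : E.ideal O = Ideal.span {a}) (U : Z.affineOpens) (e : U.1 ≤ h ⁻¹ᵁ O.1) :
    U.1 ⊓ ModPair.interior (E.comap h) = Z.basicOpen (h.appLE O.1 U.1 e a) :=
  ModPairLib.interior_inter_eq_basicOpen (by
    rw [ModPairLib.ideal_comap E h O U e, ha, Ideal.map_span, Set.image_singleton])

/-- Flat over the base: no sections supported on the inverse image of an effective Cartier divisor. -/
theorem noSupp_of_flat (p : Z ⟶ Y) {E : Y.IdealSheafData} (hE : BlowUp.IsEffCartierIdeal E) {G : Z.Modules}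
    (hG : Coh.IsQCoh G) (W : Z.Opens) (hfl : ∀ z ∈ W, FlatMod.IsFlatOverAt p G z) :
    NoSupp (ModPair.interior (E.comap p)) G W := by
  refine noSupp_of_charts hG W fun z V hz hVW => ?_
  obtain ⟨O, hpO, t, ht, hEO⟩ := hE (p z)
  obtain ⟨_, ⟨U, hU, rfl⟩, hzU, hUV⟩ := Z.isBasis_affineOpens.exists_subset_of_mem_open
    (show z ∈ (V : Set Z) ∩ (p ⁻¹ᵁ O.1 : Z.Opens) from ⟨hz, hpO⟩) (V.2.inter (p ⁻¹ᵁ O.1).2)
  have e : U ≤ p ⁻¹ᵁ O.1 := fun x hx => (hUV hx).2
  refine ⟨⟨U, hU⟩, p.appLE O.1 U e t, hzU, fun x hx => (hUV hx).1, inf_interior_pullback p O hEO ⟨U, hU⟩ e, fun m hm => ?_⟩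
  letI : Module Γ(Y, O.1) Γ(G, U) := Module.compHom _ (p.appLE O.1 U e).hom
  haveI : Module.Flat Γ(Y, O.1) Γ(G, U) :=
    (flat_appLE_iff p hG hU O.2 e).2 fun x hx => hfl x (hVW (hUV hx).1)
  exact ((Module.Flat.isSMulRegular_of_nonZeroDivisors ht) : IsSMulRegular Γ(G, U) t).right_eq_zero_of_smul hm

/-- Inverse image along a flat morphism keeps the absence of supported sections. -/
theorem noSupp_pullback_of_flat (h : Z ⟶ Y) [Flat h] {E : Y.IdealSheafData} (hE : ModPairLib.IsLocPrincipal E)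
    {G : Y.Modules} (hG : Coh.IsQCoh G) (hns : NoSupp (ModPair.interior E) G ⊤) (W : Z.Opens) :
    NoSupp (ModPair.interior (E.comap h)) ((Scheme.Modules.pullback h).obj G) W := by
  refine noSupp_of_charts (isQCoh_pullback h hG) W fun z V hz _ => ?_
  obtain ⟨O, a, hpO, -, ha⟩ := exists_principal_le hE (V := ⊤) (p := h z) trivial
  obtain ⟨_, ⟨U, hU, rfl⟩, hzU, hUV⟩ := Z.isBasis_affineOpens.exists_subset_of_mem_open
    (show z ∈ (V : Set Z) ∩ (h ⁻¹ᵁ O.1 : Z.Opens) from ⟨hz, hpO⟩) (V.2.inter (h ⁻¹ᵁ O.1).2)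
  have e : U ≤ h ⁻¹ᵁ O.1 := fun x hx => (hUV hx).2
  refine ⟨⟨U, hU⟩, h.appLE O.1 U e a, hzU, fun x hx => (hUV hx).1, inf_interior_pullback h O ha ⟨U, hU⟩ e, fun m hm => ?_⟩
  letI : Algebra Γ(Y, O.1) Γ(Z, U) := (h.appLE O.1 U e).hom.toAlgebra
  haveI : Module.Flat Γ(Y, O.1) Γ(Z, U) := h.flat_appLE O.2 hU e
  letI : Module Γ(Y, O.1) Γ((Scheme.Modules.pullback h).obj G, U) := Module.compHom _ (h.appLE O.1 U e).hom
  haveI : IsScalarTower Γ(Y, O.1) Γ(Z, U) Γ((Scheme.Modules.pullback h).obj G, U) :=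
    .of_algebraMap_smul fun _ _ => rfl
  obtain ⟨l, -, hl⟩ := ExistEasy.exists_pullSec_baseChange h hG hU O.2 e
  have hreg : Function.Injective (a • (LinearMap.id : Γ(G, O.1) →ₗ[Γ(Y, O.1)] Γ(G, O.1))) := by
    rw [injective_iff_map_eq_zero]
    intro y (hy : a • y = 0)
    refine hns O.1 le_top y (map_eq_zero_of_le (Y.basicOpen_le a) (le_of_eq (ModPairLib.interior_inter_eq_basicOpen ha)) y ?_)
    have h1 := (map_smul' (homOfLE (Y.basicOpen_le a)) a y).symm.trans ((congrArg _ hy).trans (map_zero _))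
    have hu : IsUnit (Y.presheaf.map (homOfLE (Y.basicOpen_le a)).op a) := Y.toRingedSpace.isUnit_res_basicOpen a
    exact (IsUnit.smul_eq_zero hu).1 h1
  have hb := Module.Flat.lTensor_preserves_injective_linearMap (M := Γ(Z, U)) _ hreg
  obtain ⟨m', rfl⟩ := hl.equiv.surjective m
  have h0 : LinearMap.lTensor Γ(Z, U) (a • (LinearMap.id : Γ(G, O.1) →ₗ[Γ(Y, O.1)] Γ(G, O.1))) m' = 0 := by
    refine hl.equiv.injective ((?_ : _ = _).trans (hm.trans (map_zero hl.equiv).symm))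
    rw [LinearMap.lTensor_smul, LinearMap.lTensor_id, LinearMap.smul_apply, LinearMap.id_apply,
      ← algebraMap_smul Γ(Z, U) a m', map_smul]
    rfl
  rw [hb (h0.trans (map_zero _).symm), map_zero]

end Groth.Agent.StrictFun
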