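import Groth.Agent.S1271
import Groth.Agent.S1694
import Groth.Agent.ZRLim.Stalk
import Groth.Agent.ModPairLib.Coprod
import Groth.Agent.ModPairLib.BlowUp
import Groth.Agent.BlowUpX.Basic
import Groth.Agent.StrictFun.NoSupp
import Mathlib.AlgebraicGeometry.Morphisms.Etale

/-!
# Dominating blow-ups given etale locally on the base
-/

universe u

set_option autoImplicit false
set_option linter.style.haveILetI false
set_option backward.isDefEq.respectTransparency false
set_option backward.isDefEq.respectTransparency.types false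
attribute [-instance] CategoryTheory.catToReflQuiver

open CategoryTheory CategoryTheory.Limits AlgebraicGeometry TopologicalSpace
open Scheme (IdealSheafData)

namespace Groth.Agent.StrictFun

open BlowUpLib

theorem centre_mul {A : Type u} [CommRing A] (I J : Ideal A) : centre (I * J) = centre I * centre J := by
  refine IdealSheafData.ext_of_isAffine ?_
  rw [IdealSheafData.ideal_mul, Pi.mul_apply, centre_top, centre_top, centre_top, Ideal.map_mul]

theorem isFG_prod {S : Scheme.{u}} {ι : Type*} (s : Finset ι) (K : ι → S.IdealSheafData)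
    (h : ∀ i ∈ s, BlowUp.IsFiniteTypeIdeal (K i)) : BlowUp.IsFiniteTypeIdeal (∏ i ∈ s, K i) := by
  classical
  induction s using Finset.induction_on with
  | empty => intro V; rw [Finset.prod_empty, IdealSheafData.one_eq_top, IdealSheafData.ideal_top]; exact ⟨{1}, by simp⟩
  | insert a s ha ih =>
    rw [Finset.prod_insert ha]
    intro V
    rw [IdealSheafData.ideal_mul, Pi.mul_apply]
    exact Submodule.FG.mul (h a (Finset.mem_insert_self _ _) V) (ih (fun i hi => h i (Finset.mem_insert_of_mem hi)) V)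

theorem support_prod_subset {S : Scheme.{u}} {ι : Type*} (s : Finset ι) (K : ι → S.IdealSheafData) (Z : Set S)
    (h : ∀ i ∈ s, ((K i).support : Set S) ⊆ Z) : ((∏ i ∈ s, K i).support : Set S) ⊆ Z := by
  classical
  induction s using Finset.induction_on with
  | empty => rw [Finset.prod_empty, IdealSheafData.one_eq_top]; simp
  | insert a s ha ih =>
    rw [Finset.prod_insert ha, IdealSheafData.support_mul, Closeds.coe_sup]
    exact Set.union_subset (h a (Finset.mem_insert_self _ _)) (ih fun i hi => h i (Finset.mem_insert_of_mem hi))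

/-- Near a point of an etale scheme, an ideal of finite type divides an ideal coming from the base. -/
theorem exists_divides_near {S W : Scheme.{u}} [CompactSpace S] [QuasiSeparatedSpace S] {E : S.IdealSheafData}
    (hE : BlowUp.IsEffCartierIdeal E) (e : W ⟶ S) [Etale e] {J : W.IdealSheafData}
    (hJ : BlowUp.IsFiniteTypeIdeal J) (hsupp : ∀ w ∈ J.support, e w ∈ E.support) (w : W) :
    ∃ (K : S.IdealSheafData) (B : CommRingCat.{u}) (c : Spec B ⟶ W), IsOpenImmersion c ∧
      w ∈ Set.range c ∧ BlowUp.IsFiniteTypeIdeal K ∧ (K.support : Set S) ⊆ E.support ∧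
      ∃ J' : (Spec B).IdealSheafData, K.comap (c ≫ e) = J.comap c * J' := by
  obtain ⟨V, hwV, a, ha, hEV⟩ := hE (e w)
  obtain ⟨_, ⟨W₀, hW₀, rfl⟩, hwW, hWV⟩ := W.isBasis_affineOpens.exists_subset_of_mem_open
    (show w ∈ ((e ⁻¹ᵁ V.1 : W.Opens) : Set W) from hwV) (e ⁻¹ᵁ V.1).2
  have hle : W₀ ≤ e ⁻¹ᵁ V.1 := hWV
  have hW₀' : IsAffineOpen W₀ := hW₀
  letI : Algebra Γ(S, V.1) Γ(W, W₀) := (e.appLE V.1 W₀ hle).hom.toAlgebra
  haveI : Algebra.Etale Γ(S, V.1) Γ(W, W₀) := e.etale_appLE V.2 hW₀' hle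
  have hrad : algebraMap Γ(S, V.1) Γ(W, W₀) a ∈ (J.ideal ⟨W₀, hW₀'⟩).radical := by
    rw [Ideal.radical_eq_sInf, Submodule.mem_sInf]
    rintro q ⟨hJq, hq⟩
    by_contra hne
    obtain ⟨y, hy, hyq⟩ := QCoh.exists_point hW₀' ⟨q, hq⟩
    have hyJ : y ∈ J.support := (BlowSep.mem_support_iff_le_prime J (U := ⟨W₀, hW₀'⟩) hy).2 (hyq ▸ hJq)
    have h1 : y ∈ W.basicOpen (e.appLE V.1 W₀ hle a) := by
      by_contra h2
      have h4 : e.appLE V.1 W₀ hle a ∈ (hW₀'.primeIdealOf ⟨y, hy⟩).asIdeal := (BlowSep.prime_iff hW₀' hy _).2 h2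
      rw [hyq] at h4
      exact hne h4
    rw [Scheme.Hom.appLE, CommRingCat.comp_apply, Scheme.basicOpen_res, ← Scheme.preimage_basicOpen] at h1
    have h3 := (ModPairLib.interior_inter_eq_basicOpen hEV).ge h1.2
    exact h3.2 (hsupp y hyJ)
  obtain ⟨I, g, J', hIfg, haI, hgq, -, hIJ⟩ := S1271.result a ha (J.ideal ⟨W₀, hW₀'⟩) (hJ _) hrad
    (hW₀'.primeIdealOf ⟨w, hwW⟩).asIdeal
  obtain ⟨L, hL⟩ := ZRLim.exists_ideal_eq V I
  obtain ⟨K', hK'L, hK', hIK'⟩ := MorLib.IdealFG.exists_fg_le L V I hIfg hL.ge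
  obtain ⟨m, hm⟩ := haI
  let n := m + 1
  have hn : a ^ n ∈ I := by
    show a ^ (m + 1) ∈ I
    rw [pow_succ]
    exact I.mul_mem_right _ hm
  let c : Spec (CommRingCat.of (Localization.Away g)) ⟶ W :=
    Spec.map (CommRingCat.ofHom (algebraMap Γ(W, W₀) (Localization.Away g))) ≫ hW₀'.fromSpec
  haveI : IsOpenImmersion (Spec.map (CommRingCat.ofHom (algebraMap Γ(W, W₀) (Localization.Away g)))) :=
    IsOpenImmersion.of_isLocalization g
  have hKV : (K' ⊔ E ^ n).ideal V = I := by
    rw [IdealSheafData.ideal_sup, Pi.sup_apply, IdealSheafData.ideal_pow, Pi.pow_apply, hEV,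
      Ideal.span_singleton_pow, le_antisymm ((hK'L V).trans hL.le) hIK', sup_eq_left,
      Ideal.span_singleton_le_iff_mem]
    exact hn
  refine ⟨K' ⊔ E ^ n, _, c, inferInstance, ?_, ?_, ?_, centre J', ?_⟩
  · obtain ⟨Q, hQ⟩ : ∃ Q, Spec.map (CommRingCat.ofHom (algebraMap Γ(W, W₀) (Localization.Away g))) Q =
        hW₀'.primeIdealOf ⟨w, hwW⟩ := by
      have : hW₀'.primeIdealOf ⟨w, hwW⟩ ∈ Set.range (PrimeSpectrum.comap (algebraMap Γ(W, W₀) (Localization.Away g))) := by
        rw [PrimeSpectrum.localization_away_comap_range _ g]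
        exact hgq
      exact this
    exact ⟨Q, (congrArg hW₀'.fromSpec hQ).trans (hW₀'.fromSpec_primeIdealOf ⟨w, hwW⟩)⟩
  · exact BlowSep.isFiniteTypeIdeal_sup hK' fun U => by
      rw [IdealSheafData.ideal_pow]
      exact Submodule.FG.pow (isFG_of_isLocPrincipal (ModPairLib.isLocPrincipal_of_isEffCartier hE) U) n
  · intro x hx
    by_contra hne
    have h1 : x ∈ (E ^ n).support := IdealSheafData.support_antitone (le_sup_right : E ^ n ≤ K' ⊔ E ^ n) hx
    rw [IdealSheafData.support_pow_succ] at h1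
    exact hne h1
  · have hce : c ≫ e = Spec.map (CommRingCat.ofHom (algebraMap Γ(S, V.1) (Localization.Away g))) ≫ V.2.fromSpec := by
      rw [Category.assoc, ← IsAffineOpen.SpecMap_appLE_fromSpec e V.2 hW₀' hle, ← Category.assoc, ← Spec.map_comp]
      congr 2
    rw [hce, IdealSheafData.comap_comp, comap_fromSpec, hKV, ExcSmooth.comap_centre, IdealSheafData.comap_comp]
    have h2 : J.comap hW₀'.fromSpec = centre (J.ideal ⟨W₀, hW₀'⟩) := comap_fromSpec J ⟨W₀, hW₀'⟩
    rw [h2, ExcSmooth.comap_centre, ← centre_mul]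
    exact congrArg centre hIJ

/-- An ideal on the base whose blow-up makes an ideal on a quasi-compact etale scheme invertible. -/
theorem exists_ideal_cartier {S W : Scheme.{u}} [CompactSpace S] [QuasiSeparatedSpace S] [CompactSpace W]
    {E : S.IdealSheafData} (hE : BlowUp.IsEffCartierIdeal E) (e : W ⟶ S) [Etale e] {J : W.IdealSheafData}
    (hJ : BlowUp.IsFiniteTypeIdeal J) (hsupp : ∀ w ∈ J.support, e w ∈ E.support) :
    ∃ K : S.IdealSheafData, BlowUp.IsFiniteTypeIdeal K ∧ (K.support : Set S) ⊆ E.support ∧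
      ∀ {T Z : Scheme.{u}} (g : T ⟶ S) (p : Z ⟶ W) (q : Z ⟶ T), IsPullback p q e g →
        BlowUp.IsEffCartierIdeal (K.comap g) → BlowUp.IsEffCartierIdeal (J.comap p) := by
  classical
  choose K B c hc hw hK hKs J' hJ' using exists_divides_near hE e hJ hsupp
  haveI := hc
  obtain ⟨s, hs⟩ := isCompact_univ.elim_finite_subcover (fun w : W => Set.range (c w))
    (fun w => (c w).isOpenEmbedding.isOpen_range) (fun w _ => Set.mem_iUnion.2 ⟨w, hw w⟩)
  refine ⟨∏ w ∈ s, K w, isFG_prod s K fun w _ => hK w, support_prod_subset s K _ fun w _ => hKs w,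
    fun {T Z} g p q hpq hg => ?_⟩
  haveI : Etale q := MorphismProperty.of_isPullback hpq inferInstance
  refine ModPairLib.isEffCartier_of_comap (fun w : s => pullback.fst p (c w.1)) (fun z => ?_) fun w => ?_
  · obtain ⟨w, hws, b, hb⟩ := Set.mem_iUnion₂.1 (hs (Set.mem_univ (p z)))
    obtain ⟨z', hz', -⟩ := Scheme.Pullback.exists_preimage_pullback z b hb.symm
    exact ⟨⟨w, hws⟩, z', hz'⟩
  have h1 : BlowUp.IsEffCartierIdeal (((K w.1).comap g).comap q) := by
    refine isEffCartier_comap_flat q (BlowUpX.isEffCartier_left_of_mul (J := (∏ v ∈ s.erase w.1, K v).comap g) ?_)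
    rwa [← ModPairLib.ideal_comap_mul, Finset.mul_prod_erase s K w.2]
  have h2 := isEffCartier_comap_flat (pullback.fst p (c w.1)) h1
  rw [← IdealSheafData.comap_comp, ← IdealSheafData.comap_comp] at h2
  have hw' : (pullback.fst p (c w.1) ≫ q) ≫ g = pullback.snd p (c w.1) ≫ c w.1 ≫ e := by
    rw [Category.assoc, ← hpq.w, pullback.condition_assoc]
  rw [hw', IdealSheafData.comap_comp, hJ', ModPairLib.ideal_comap_mul, ← IdealSheafData.comap_comp,
    ← pullback.condition] at h2
  rw [← IdealSheafData.comap_comp]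
  exact BlowUpX.isEffCartier_left_of_mul h2

end Groth.Agent.StrictFun
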