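import Groth.Agent.FreeGenPts.FlatDim

/-!
# Generic points of fibres of affine morphisms with geometrically integral fibres
-/

set_option autoImplicit false
set_option linter.style.haveILetI false
set_option backward.isDefEq.respectTransparency false
set_option backward.isDefEq.respectTransparency.types false
attribute [-instance] CategoryTheory.catToReflQuiver

universe u

open CategoryTheory CategoryTheory.Limits AlgebraicGeometry TopologicalSpace Opposite IsLocalRing

namespace Groth.Agent.StrictFun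

variable {Y T : Scheme.{u}} (q : Y ⟶ T) [IsAffineHom q] [GeometricallyIntegral q]

omit [IsAffineHom q] in
theorem geomIntegral_appLE (D : T.Opens) (hD : IsAffineOpen D) (hW : IsAffineOpen (q ⁻¹ᵁ D)) :
    GeometricallyIntegral (Spec.map (q.appLE D (q ⁻¹ᵁ D) le_rfl)) := by
  have hcomm : Spec.map (q.appLE D (q ⁻¹ᵁ D) le_rfl) = hW.isoSpec.inv ≫ (q ∣_ D) ≫ hD.isoSpec.hom := by
    rw [← cancel_mono hD.fromSpec, IsAffineOpen.SpecMap_appLE_fromSpec q hD hW le_rfl]
    simp only [Category.assoc]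
    rw [show hD.isoSpec.hom ≫ hD.fromSpec = D.ι by rw [← hD.isoSpec_inv_ι, Iso.hom_inv_id_assoc]]
    rw [morphismRestrict_ι, IsAffineOpen.isoSpec_inv_ι_assoc]
  rw [hcomm]
  exact (MorphismProperty.cancel_left_of_respectsIso @GeometricallyIntegral _ _).2
    ((MorphismProperty.cancel_right_of_respectsIso @GeometricallyIntegral _ _).2 inferInstance)

/-- In an affine piece, the generic point of a fibre is the extension of the prime below. -/
theorem primeIdealOf_eq_map_of_generic [Flat q] {D : T.Opens} (hD' : IsAffineOpen D)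
    (hW : IsAffineOpen (q ⁻¹ᵁ D)) {η : Y} (hy : q η ∈ D) (hη : FlatFun.IsGenericPtOfFibre q η) :
    (hW.primeIdealOf ⟨η, hy⟩).asIdeal = (hD'.primeIdealOf ⟨q η, hy⟩).asIdeal.map
      (q.appLE D (q ⁻¹ᵁ D) le_rfl).hom := by
  letI : Algebra Γ(T, D) Γ(Y, q ⁻¹ᵁ D) := (q.appLE D (q ⁻¹ᵁ D) le_rfl).hom.toAlgebra
  haveI : Module.Flat Γ(T, D) Γ(Y, q ⁻¹ᵁ D) := q.flat_appLE hD' hW le_rfl
  have hgi : FlatCA.GeomIntegralFibres Γ(T, D) Γ(Y, q ⁻¹ᵁ D) := geomIntegral_appLE q D hD' hW
  let p := (hD'.primeIdealOf ⟨q η, hy⟩).asIdeal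
  let P := (hW.primeIdealOf ⟨η, hy⟩).asIdeal
  have hPp : P.comap (algebraMap Γ(T, D) Γ(Y, q ⁻¹ᵁ D)) = p := congrArg PrimeSpectrum.asIdeal
    (IsAffineOpen.comap_primeIdealOf_appLE D hD' (q ⁻¹ᵁ D) hW le_rfl hy (f := q))
  obtain ⟨hQ, hQp⟩ := RGLib.isPrime_map_and_comap hgi p (S := Γ(Y, q ⁻¹ᵁ D))
  have hP : P = p.map (algebraMap Γ(T, D) Γ(Y, q ⁻¹ᵁ D)) := by
    refine le_antisymm ?_ (Ideal.map_le_iff_le_comap.2 hPp.ge)
    obtain ⟨y, hyW, hyQ⟩ := QCoh.exists_point hW ⟨_, hQ⟩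
    have hqy : q y = q η := FlatHens.primeIdealOf_injective hD' hyW hy
      ((IsAffineOpen.comap_primeIdealOf_appLE D hD' (q ⁻¹ᵁ D) hW le_rfl hyW (f := q)).symm.trans
        (PrimeSpectrum.ext (by
          show (hW.primeIdealOf ⟨y, hyW⟩).asIdeal.comap _ = p
          rw [hyQ]
          exact hQp)))
    have hsp' : hW.fromSpec (hW.primeIdealOf ⟨η, hy⟩) ⤳ hW.fromSpec (hW.primeIdealOf ⟨y, hyW⟩) := by
      rw [hW.fromSpec_primeIdealOf ⟨η, hy⟩, hW.fromSpec_primeIdealOf ⟨y, hyW⟩]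
      exact hη y hqy
    have hsp := hW.fromSpec.isOpenEmbedding.isInducing.specializes_iff.1 hsp'
    rw [hyQ] at hsp
    exact (PrimeSpectrum.le_iff_specializes _ _).2 hsp
  exact hP

/-- The maximal ideal at the generic point of a fibre comes from the base. -/
theorem map_maximal_of_generic [Flat q] {η : Y} (hη : FlatFun.IsGenericPtOfFibre q η) :
    (maximalIdeal (T.presheaf.stalk (q η))).map (q.stalkMap η).hom = maximalIdeal (Y.presheaf.stalk η) := by
  obtain ⟨_, ⟨D, hD, rfl⟩, hy, -⟩ :=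
    T.isBasis_affineOpens.exists_subset_of_mem_open (Set.mem_univ (q η)) isOpen_univ
  have hD' : IsAffineOpen D := hD
  have hW : IsAffineOpen (q ⁻¹ᵁ D) := hD'.preimage q
  letI : Algebra Γ(T, D) Γ(Y, q ⁻¹ᵁ D) := (q.appLE D (q ⁻¹ᵁ D) le_rfl).hom.toAlgebra
  let p := (hD'.primeIdealOf ⟨q η, hy⟩).asIdeal
  let P := (hW.primeIdealOf ⟨η, hy⟩).asIdeal
  have hP : P = p.map (algebraMap Γ(T, D) Γ(Y, q ⁻¹ᵁ D)) := primeIdealOf_eq_map_of_generic q hD' hW hy hη
  letI := QCoh.stalkAlg (X := T) (U := D) (x := q η) hy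
  letI := QCoh.stalkAlg (X := Y) (U := q ⁻¹ᵁ D) (x := η) hy
  haveI := QCoh.isLocalization_stalk' hD' (x := q η) hy
  haveI := QCoh.isLocalization_stalk' hW (x := η) hy
  rw [← IsLocalization.AtPrime.map_eq_maximalIdeal p (T.presheaf.stalk (q η)),
    ← IsLocalization.AtPrime.map_eq_maximalIdeal P (Y.presheaf.stalk η), hP, Ideal.map_map, Ideal.map_map]
  congr 1
  refine RingHom.ext fun a => ?_
  show q.stalkMap η (T.presheaf.germ D (q η) hy a) =
    Y.presheaf.germ (q ⁻¹ᵁ D) η hy (q.appLE D (q ⁻¹ᵁ D) le_rfl a)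
  rw [Scheme.Hom.germ_stalkMap_apply q D η hy a, Scheme.Hom.app_eq_appLE]

/-- Flat at the generic point of a fibre: free near it. -/
theorem near_of_flatAt_generic [Flat q] {N : Y.Modules} (hN : CohB1.IsFP N) {η : Y}
    (hη : FlatFun.IsGenericPtOfFibre q η) (h : FlatMod.IsFlatOverAt q N η) :
    ∃ p, FlatFun.IsFreeOfRankNear N p η := by
  letI : Algebra (T.presheaf.stalk (q η)) (Y.presheaf.stalk η) := (q.stalkMap η).hom.toAlgebra
  letI := FlatMod.moduleStalkOver q N η
  haveI : IsScalarTower (T.presheaf.stalk (q η)) (Y.presheaf.stalk η) (N.presheaf.stalk η) :=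
    IsScalarTower.of_algebraMap_smul fun _ _ => rfl
  haveI : Module.Flat (T.presheaf.stalk (q η)) (N.presheaf.stalk η) := h
  haveI := FreeGenPts.finitePresentation_stalk hN η
  haveI : Module.Free (Y.presheaf.stalk η) (N.presheaf.stalk η) :=
    FreeGenPts.free_of_flat_of_map_maximal (A := T.presheaf.stalk (q η)) (map_maximal_of_generic q hη)
  obtain ⟨U, n, hU, e⟩ := QCoh.exists_free_nhd_of_free_stalk hN η
  exact ⟨n, U, hU, e⟩

omit [IsAffineHom q] [GeometricallyIntegral q] in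
/-- Specialising to the generic point. -/
theorem generic_near {N : Y.Modules} {p : ℕ} {η z : Y} (hη : FlatFun.IsGenericPtOfFibre q η) (hz : q z = q η)
    (h : FlatFun.IsFreeOfRankNear N p z) : FlatFun.IsFreeOfRankNear N p η :=
  (hη z hz).mem_open (FreeGenPts.isOpen_near N p) h

omit [IsAffineHom q] in
/-- The rank near the generic point of a fibre does not depend on the point used. -/
theorem rank_unique {N : Y.Modules} (hN : Coh.IsQCoh N) {p p' : ℕ} {z z' : Y} (hz : q z = q z')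
    (h : FlatFun.IsFreeOfRankNear N p z) (h' : FlatFun.IsFreeOfRankNear N p' z') : p = p' := by
  obtain ⟨η, hη, hgen, -⟩ := FreeGenPts.exists_generic q z
  exact (FreeGenPts.stalk_of_near hN (generic_near q hgen hη.symm h)).2.symm.trans
    (FreeGenPts.stalk_of_near hN (generic_near q hgen (hz.symm.trans hη.symm) h')).2

end Groth.Agent.StrictFun
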