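import Groth.Agent.StrictFun.Common
import Groth.Agent.StrictFun.Blow
import Groth.Agent.StrictFun.Generic
import Groth.Agent.AssCycles.Basic

/-!
# Freeness of the strict transform on an open surjecting to the base
-/

set_option autoImplicit false
set_option linter.style.haveILetI false
set_option backward.isDefEq.respectTransparency false
set_option backward.isDefEq.respectTransparency.types false
attribute [-instance] CategoryTheory.catToReflQuiver

universe u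

open CategoryTheory CategoryTheory.Limits AlgebraicGeometry TopologicalSpace Opposite
open Scheme (IdealSheafData)

namespace Groth.Agent.StrictFun

open Groth.Agent.QCoh

/-- Every quotient of `N` by the sections supported off the inverse image of `U` is free near a point of
every fibre. -/
def FreeSurj {Y T : Scheme.{u}} (q : Y ⟶ T) (N : Y.Modules) (U : T.Opens) : Prop :=
  ∀ (G : Y.Modules) (π : N ⟶ G), IsCut (q ⁻¹ᵁ U) π →
    ∀ t : T, ∃ (y : Y) (p : ℕ), q y = t ∧ FlatFun.IsFreeOfRankNear G p y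

/-- After some blow-up in an ideal with zero locus the complement of `U`, the strict transform is free near a
point of every fibre. -/
def Good {X S : Scheme.{u}} (f : X ⟶ S) (F : X.Modules) (U : S.Opens) : Prop :=
  ∃ (𝓙 : S.IdealSheafData) (S' : Scheme.{u}) (b : S' ⟶ S), BlowUp.IsBlowUp b 𝓙 ∧
    BlowUp.IsFiniteTypeIdeal 𝓙 ∧ ModPair.interior 𝓙 = U ∧
      ∀ (X' : Scheme.{u}) (p₁ : X' ⟶ X) (p₂ : X' ⟶ S'), IsPullback p₁ p₂ f b →
        FreeSurj p₂ ((Scheme.Modules.pullback p₁).obj F) (b ⁻¹ᵁ U)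

theorem isCut_unique_qcoh {Y : Scheme.{u}} {D : Y.Opens} [QuasiCompact D.ι] [QuasiSeparated D.ι]
    {M G : Y.Modules} {π : M ⟶ G} (hM : Coh.IsQCoh M) (h : IsCut D π) : Coh.IsQCoh G := by
  obtain ⟨G₀, π₀, hG₀, hc₀⟩ := exists_isCut hM D
  haveI := h.1
  haveI := hc₀.1
  have hkill : ∀ {A B : Y.Modules} (ρ : M ⟶ A) (σ : M ⟶ B), IsCut D ρ → IsCut D σ → kernel.ι ρ ≫ σ = 0 :=
    fun ρ σ hρ hσ => by
      refine Scheme.Modules.hom_ext _ _ fun V => ?_
      ext x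
      exact (hσ.2 V _).2 ((hρ.2 V _).1 (congr(($(kernel.condition ρ)).app V x) :))
  let e : G₀ ≅ G :=
    { hom := Abelian.epiDesc π₀ π (hkill _ _ hc₀ h)
      inv := Abelian.epiDesc π π₀ (hkill _ _ h hc₀)
      hom_inv_id := by rw [← cancel_epi π₀, Abelian.comp_epiDesc_assoc, Abelian.comp_epiDesc, Category.comp_id]
      inv_hom_id := by rw [← cancel_epi π, Abelian.comp_epiDesc_assoc, Abelian.comp_epiDesc, Category.comp_id] }
  exact (SheafOfModules.isQuasicoherent Y.ringCatSheaf).prop_of_iso e hG₀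

theorem qcqs_interior {Y : Scheme.{u}} {D : Y.Opens} {E : Y.IdealSheafData} (hE : ModPairLib.IsLocPrincipal E)
    (hD : ModPair.interior E = D) : QuasiCompact D.ι ∧ QuasiSeparated D.ι := by
  subst hD
  haveI := ModPairLib.isAffineHom_interior hE
  exact ⟨inferInstance, inferInstance⟩

/-- Freeness near a point of the fibres passes to a base change. -/
theorem FreeSurj.baseChange {Y₁ T₁ Y₂ T₂ : Scheme.{u}} {q₁ : Y₁ ⟶ T₁} {q₂ : Y₂ ⟶ T₂} {h : Y₂ ⟶ Y₁} {g : T₂ ⟶ T₁}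
    (sq : IsPullback h q₂ q₁ g) [Flat q₂] {N₁ : Y₁.Modules} {N₂ : Y₂.Modules}
    (e : (Scheme.Modules.pullback h).obj N₁ ≅ N₂) (hN₁ : Coh.IsQCoh N₁) {U₁ : T₁.Opens} {U₂ : T₂.Opens}
    [QuasiCompact (q₁ ⁻¹ᵁ U₁).ι] [QuasiSeparated (q₁ ⁻¹ᵁ U₁).ι] (hU : U₂ ≤ g ⁻¹ᵁ U₁)
    {E : T₂.IdealSheafData} (hE : BlowUp.IsEffCartierIdeal E) (hint : ModPair.interior E = U₂)
    (H : FreeSurj q₁ N₁ U₁) : FreeSurj q₂ N₂ U₂ := by
  intro G₂ π₂ hπ₂ t
  obtain ⟨G₁, π₁, hG₁, hπ₁⟩ := exists_isCut hN₁ (q₁ ⁻¹ᵁ U₁)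
  obtain ⟨y₁, p, hy₁, hp⟩ := H G₁ π₁ hπ₁ (g t)
  obtain ⟨z, hz₁, hz₂⟩ := Scheme.Pullback.exists_preimage_pullback (f := q₁) (g := g) y₁ t hy₁
  let y₂ := sq.isoPullback.inv z
  have hh : h y₂ = y₁ := by
    rw [← Scheme.Hom.comp_apply, sq.isoPullback_inv_fst]
    exact hz₁
  have hq : q₂ y₂ = t := by
    rw [← Scheme.Hom.comp_apply, sq.isoPullback_inv_snd]
    exact hz₂
  have hnear : FlatFun.IsFreeOfRankNear ((Scheme.Modules.pullback h).obj G₁) p y₂ :=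
    FreeGenPts.near_pullback h G₁ p y₂ (hh ▸ hp)
  let W : Y₂.Opens := ⟨{y | FlatFun.IsFreeOfRankNear ((Scheme.Modules.pullback h).obj G₁) p y},
    FreeGenPts.isOpen_near _ p⟩
  have hns : NoSupp (q₂ ⁻¹ᵁ U₂) ((Scheme.Modules.pullback h).obj G₁) W := by
    rw [← hint, ModPairLib.preimage_interior]
    exact noSupp_of_flat q₂ hE (isQCoh_pullback h hG₁) W fun z hz =>
      FreeGenPts.flatAt_of_near q₂ (isQCoh_pullback h hG₁) hz
  have hD : q₂ ⁻¹ᵁ U₂ ≤ h ⁻¹ᵁ (q₁ ⁻¹ᵁ U₁) := fun v hv => by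
    show q₁ (h v) ∈ U₁
    rw [← Scheme.Hom.comp_apply, sq.w]
    exact hU hv
  obtain ⟨i⟩ := nonempty_iso_pullback h hN₁ hG₁ e hD hπ₁ hπ₂ W hns
  exact ⟨y₂, p, hq, FreeGenPts.near_of_openImmersion W.ι (z := ⟨y₂, hnear⟩)
    (FreeGenPts.near_congr i (FreeGenPts.near_pullback W.ι _ p ⟨y₂, hnear⟩ hnear))⟩

/-- Quotients by supported sections restrict to opens. -/
theorem isCut_restrict {Y Z : Scheme.{u}} (j : Z ⟶ Y) [IsOpenImmersion j] {D : Y.Opens} {M G : Y.Modules}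
    {π : M ⟶ G} (h : IsCut D π) : IsCut (j ⁻¹ᵁ D) ((Scheme.Modules.pullback j).map π) := by
  haveI := h.1
  let η := Scheme.Modules.restrictFunctorIsoPullback j
  have e : (Scheme.Modules.pullback j).map π =
      (η.app M).inv ≫ (Scheme.Modules.restrictFunctor j).map π ≫ (η.app G).hom := by
    rw [Iso.app_inv, Iso.app_hom, η.hom.naturality, Iso.inv_hom_id_app_assoc]
  rw [e]
  refine isCut_iso_comp (η.app M).symm ⟨inferInstance, fun V m => ?_⟩
  show (η.app G).hom.app V (π.app (j ''ᵁ V) m) = 0 ↔ _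
  rw [map_eq_zero_iff _ (app_injective (η.app G).hom V), h.2]
  have e' : j ''ᵁ V ⊓ D = j ''ᵁ (V ⊓ j ⁻¹ᵁ D) := by
    ext y
    constructor
    · rintro ⟨⟨v, hv, rfl⟩, hD⟩
      exact ⟨v, ⟨hv, hD⟩, rfl⟩
    · rintro ⟨v, ⟨hv, hD⟩, rfl⟩
      exact ⟨⟨v, hv, rfl⟩, hD⟩
  constructor <;> intro h0
  · exact ((map_map (homOfLE e'.ge) (homOfLE (inf_le_left : j ''ᵁ V ⊓ D ≤ j ''ᵁ V)) m).symm.trans
      ((congrArg _ h0).trans (map_zero _)) :)
  · exact ((map_map (homOfLE e'.le) (homOfLE (j.opensFunctor.map (homOfLE (inf_le_left : V ⊓ j ⁻¹ᵁ D ≤ V))).le) m).symm.trans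
      ((congrArg _ h0).trans (map_zero _)) :)

/-- Freeness near a point of the fibres is local on the base. -/
theorem freeSurj_of_cover {Y T : Scheme.{u}} {q : Y ⟶ T} {N : Y.Modules} {U : T.Opens}
    (h : ∀ t : T, ∃ (Tα Yα : Scheme.{u}) (j : Tα ⟶ T) (k : Yα ⟶ Y) (qα : Yα ⟶ Tα),
      IsOpenImmersion j ∧ IsPullback k qα q j ∧ t ∈ Set.range j ∧
        FreeSurj qα ((Scheme.Modules.pullback k).obj N) (j ⁻¹ᵁ U)) : FreeSurj q N U := by
  intro G π hπ t
  obtain ⟨Tα, Yα, j, k, qα, hj, sq, ⟨a, rfl⟩, H⟩ := h t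
  haveI : IsOpenImmersion k := MorphismProperty.of_isPullback sq.flip hj
  have hc : IsCut (qα ⁻¹ᵁ (j ⁻¹ᵁ U)) ((Scheme.Modules.pullback k).map π) := by
    rw [← Scheme.Hom.comp_preimage, ← sq.w, Scheme.Hom.comp_preimage]
    exact isCut_restrict k hπ
  obtain ⟨y, p, hy, hp⟩ := H _ _ hc a
  refine ⟨k y, p, ?_, FreeGenPts.near_of_openImmersion k hp⟩
  rw [← Scheme.Hom.comp_apply, sq.w, Scheme.Hom.comp_apply, hy]

/-- A blow-up with centre off `U` may be done first. -/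
theorem good_of_blowUp {X S : Scheme.{u}} [CompactSpace S] [QuasiSeparatedSpace S] {f : X ⟶ S} {F : X.Modules}
    {U : S.Opens} {K : S.IdealSheafData} (hK : BlowUp.IsFiniteTypeIdeal K) (hKU : ModPair.interior K = U)
    {S₀ : Scheme.{u}} {b₀ : S₀ ⟶ S} (hb₀ : BlowUp.IsBlowUp b₀ K)
    (H : Good (pullback.snd f b₀) ((Scheme.Modules.pullback (pullback.fst f b₀)).obj F) (b₀ ⁻¹ᵁ U)) :
    Good f F U := by
  obtain ⟨J, S', b, hb, hJ, hJU, hF⟩ := H
  obtain ⟨𝓚, h𝓚, h𝓚s, hb'⟩ := S1694.result S K hK b₀ hb₀ J hJ b hb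
  refine ⟨𝓚, S', b ≫ b₀, hb', h𝓚, ?_, fun X' p₁ p₂ sq => ?_⟩
  · ext x
    show x ∉ (𝓚.support : Set S) ↔ _
    rw [h𝓚s, Set.mem_union, not_or]
    refine ⟨fun h => ?_, fun hx => ⟨?_, ?_⟩⟩
    · rw [← hKU]
      exact h.1
    · rw [← hKU] at hx
      exact hx
    · rintro ⟨x', hx', rfl⟩
      exact (hJU.ge (show x' ∈ b₀ ⁻¹ᵁ U from hx)) hx'
  · let m : X' ⟶ pullback f b₀ := pullback.lift p₁ (p₂ ≫ b) (by rw [sq.w, Category.assoc])
    have hm : IsPullback m p₂ (pullback.snd f b₀) b := by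
      refine IsPullback.of_right ?_ (pullback.lift_snd _ _ _) (IsPullback.of_hasPullback f b₀)
      rw [pullback.lift_fst]
      exact sq
    intro G π hπ t
    exact hF X' m p₂ hm G ((((Scheme.Modules.pullbackComp m (pullback.fst f b₀)) ≪≫
      Scheme.Modules.pullbackCongr (pullback.lift_fst _ _ _)).app F).hom ≫ π)
      (isCut_iso_comp _ hπ) t

/-- Goodness is local on the base. -/
theorem good_of_cover {X S : Scheme.{u}} [CompactSpace S] [QuasiSeparatedSpace S] {f : X ⟶ S} [Flat f]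
    {F : X.Modules} (hF : Coh.IsQCoh F) {U : S.Opens} (hU : IsCompact (U : Set S)) {k : ℕ}
    (O : Fin k → S.Opens) (hO : ∀ i, IsCompact (O i : Set S)) (hcov : ∀ s : S, ∃ i, s ∈ O i)
    (H : ∀ i, Good (f ∣_ O i) ((Scheme.Modules.pullback (f ⁻¹ᵁ O i).ι).obj F) ((O i).ι ⁻¹ᵁ U)) : Good f F U := by
  choose 𝓘 Si b hb h𝓘 h𝓘U hF' using H
  haveI : ∀ i, QuasiCompact (O i).ι := fun i => by
    haveI : CompactSpace (O i).toScheme := isCompact_iff_compactSpace.mp (hO i)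
    exact quasiCompact_of_compactSpace _
  obtain ⟨𝓙, S', b', hb', hadm, hint, hcart⟩ := exists_common_blowUp U hU (fun i => (O i).toScheme)
    (fun i => (O i).ι) 𝓘 fun i => ⟨h𝓘 i, Set.disjoint_left.2 fun x hx hxU => (h𝓘U i).ge hxU hx⟩
  refine ⟨𝓙, S', b', hb', hadm.1, hint, fun X' p₁ p₂ sq => freeSurj_of_cover fun t => ?_⟩
  obtain ⟨i, hi⟩ := hcov (b' t)
  let j : pullback (O i).ι b' ⟶ S' := pullback.snd (O i).ι b'
  let k : pullback p₂ j ⟶ X' := pullback.fst p₂ j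
  obtain ⟨ρ, hρ, -⟩ := (hb i).2 _ (pullback.fst (O i).ι b') (hcart i)
  change ρ ≫ b i = pullback.fst (O i).ι b' at hρ
  refine ⟨_, _, j, k, pullback.snd p₂ j, inferInstance, IsPullback.of_hasPullback p₂ j, ?_, ?_⟩
  · obtain ⟨a, -, ha⟩ := Scheme.Pullback.exists_preimage_pullback (f := (O i).ι) (g := b') ⟨b' t, hi⟩ t rfl
    exact ⟨a, ha⟩
  haveI : Flat p₂ := MorphismProperty.of_isPullback sq inferInstance
  have big : IsPullback (k ≫ p₁) (pullback.snd p₂ j) f (pullback.fst (O i).ι b' ≫ (O i).ι) := by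
    have h1 := (IsPullback.of_hasPullback p₂ j).paste_horiz sq
    rwa [show j ≫ b' = pullback.fst (O i).ι b' ≫ (O i).ι from pullback.condition.symm] at h1
  have hlift : (k ≫ p₁) ≫ f = (pullback.snd p₂ j ≫ pullback.fst (O i).ι b') ≫ (O i).ι := by
    rw [Category.assoc (pullback.snd p₂ j), big.w]
  let u : pullback p₂ j ⟶ (f ⁻¹ᵁ O i).toScheme :=
    (isPullback_morphismRestrict f (O i)).lift (pullback.snd p₂ j ≫ pullback.fst (O i).ι b') (k ≫ p₁) hlift.symm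
  have hu₁ : u ≫ (f ⁻¹ᵁ O i).ι = k ≫ p₁ := IsPullback.lift_snd _ _ _ _
  have hu : IsPullback u (pullback.snd p₂ j) (f ∣_ O i) (pullback.fst (O i).ι b') := by
    refine IsPullback.of_right ?_ (IsPullback.lift_fst _ _ _ _) (isPullback_morphismRestrict f (O i)).flip
    rw [hu₁]
    exact big
  let h : pullback p₂ j ⟶ pullback (f ∣_ O i) (b i) :=
    pullback.lift u (pullback.snd p₂ j ≫ ρ) (by rw [Category.assoc, hρ, hu.w])
  have hh : IsPullback h (pullback.snd p₂ j) (pullback.snd (f ∣_ O i) (b i)) ρ := by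
    refine IsPullback.of_right ?_ (pullback.lift_snd _ _ _) (IsPullback.of_hasPullback (f ∣_ O i) (b i))
    rw [pullback.lift_fst, hρ]
    exact hu
  have hEi := ModPairLib.isLocPrincipal_of_isEffCartier (hb i).1
  have hD : ModPair.interior (((𝓘 i).comap (b i)).comap (pullback.snd (f ∣_ O i) (b i))) =
      pullback.snd (f ∣_ O i) (b i) ⁻¹ᵁ (b i ⁻¹ᵁ ((O i).ι ⁻¹ᵁ U)) := by
    rw [← ModPairLib.preimage_interior, ← ModPairLib.preimage_interior, h𝓘U i]
  obtain ⟨_, _⟩ := qcqs_interior (hEi.comap _) hD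
  have hEj : ModPair.interior ((𝓙.comap b').comap j) = j ⁻¹ᵁ (b' ⁻¹ᵁ U) := by
    rw [← ModPairLib.preimage_interior, ← ModPairLib.preimage_interior, hint]
  let eN : (Scheme.Modules.pullback h).obj ((Scheme.Modules.pullback (pullback.fst (f ∣_ O i) (b i))).obj
      ((Scheme.Modules.pullback (f ⁻¹ᵁ O i).ι).obj F)) ≅
      (Scheme.Modules.pullback k).obj ((Scheme.Modules.pullback p₁).obj F) :=
    (Scheme.Modules.pullbackComp h (pullback.fst (f ∣_ O i) (b i))).app _ ≪≫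
      (Scheme.Modules.pullbackCongr (pullback.lift_fst _ _ _)).app _ ≪≫
      (Scheme.Modules.pullbackComp u (f ⁻¹ᵁ O i).ι ≪≫ Scheme.Modules.pullbackCongr hu₁ ≪≫
        (Scheme.Modules.pullbackComp k p₁).symm).app F
  refine FreeSurj.baseChange hh eN (isQCoh_pullback _ (isQCoh_pullback _ hF)) (le_of_eq ?_)
    (BlowUpLib.isEffCartier_comap_flat j hb'.1) hEj (hF' i _ _ _ (IsPullback.of_hasPullback _ _))
  rw [← Scheme.Hom.comp_preimage ρ, hρ, ← Scheme.Hom.comp_preimage, ← Scheme.Hom.comp_preimage,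
    pullback.condition]

end Groth.Agent.StrictFun
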